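import Cfsg.Agent.Lib.McLRankThree18.Data
import Cfsg.Agent.Lib.LatticeUnitary.U4Data

/-! Checks of the tables. -/

set_option autoImplicit false
set_option maxRecDepth 20000
set_option Elab.async false

namespace Cfsg.Agent.Lib.McLRankThree18

open Cfsg.Agent.Lib.Computation (getW okPerm)
open Cfsg.Agent.Lib.LatticeUnitary.U4 (side_gens par)

/-- Adjacency of two lines. -/
def adjB (i j : ℕ) : Bool := (getW 112 adjTab i).testBit j

/-- An entry of a clique. -/
def cl (q k : ℕ) : ℕ := getW 7 (getW 28 cliqueTab q) k

/-- The mask of a clique. -/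
def clMask (q : ℕ) : ℕ := 2 ^ cl q 0 ||| 2 ^ cl q 1 ||| 2 ^ cl q 2 ||| 2 ^ cl q 3

/-- A mask of the distinguished orbit. -/
def hm (j : ℕ) : ℕ := getW 112 hemiTab j

/-- A mask among all four orbits. -/
def mk (a : ℕ) : ℕ := imgMask (sigmaTab.getD (a / 162) 0) (hm (a % 162)) 112

/-- A generator on lines. -/
def gen (g x : ℕ) : ℕ := getW 7 (side_gens.getD g 0) x

/-- A word in the generators on lines. -/
def wordFun (w : List ℕ) (x : ℕ) : ℕ := w.foldr gen x

/-- The action of a generator on cliques. -/
def clAct (g q : ℕ) : ℕ := getW 9 (cliqueAct.getD g 0) q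

/-- A moving automorphism. -/
def sg (i x : ℕ) : ℕ := getW 7 (sigmaTab.getD i 0) x

/-- A conjugated generator. -/
def cj (i g x : ℕ) : ℕ := getW 7 (conjTab.getD (2 * i + g) 0) x

/-- Its action on the orbit. -/
def hAct (i g j : ℕ) : ℕ := getW 8 (hemiAct.getD (2 * i + g) 0) j

/-- The number of positions below 112 in a mask. -/
def pop (m : ℕ) : ℕ := ((Finset.univ : Finset (Fin 112)).filter fun i => m.testBit i.1).card

/-- The mask of all lines. -/
def full : ℕ := 2 ^ 112 - 1

theorem adj_ok : (allN 112 fun i => !adjB i i && allN 112 fun j => adjB i j == adjB j i &&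
    adjB (gen 0 i) (gen 0 j) == adjB i j && adjB (gen 1 i) (gen 1 j) == adjB i j) = true := by
  decide +kernel

theorem gen_ok : (okPerm 112 7 (side_gens.getD 0 0) && okPerm 112 7 (side_gens.getD 1 0)) = true := by
  decide +kernel

theorem gen_path : (allN 112 fun j => decide (j = 0 ∨
    (getW 16 par j % 128 < 112 ∧ gen (getW 16 par j >>> 7 % 2) (getW 16 par j % 128) = j ∧
      getW 16 par (getW 16 par j % 128) >>> 8 < getW 16 par j >>> 8))) = true := by
  decide +kernel

theorem cl_ok : (allN 280 fun q => decide (cl q 0 < 112 ∧ cl q 1 < 112 ∧ cl q 2 < 112 ∧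
    cl q 3 < 112) && adjB (cl q 0) (cl q 1) && adjB (cl q 0) (cl q 2) && adjB (cl q 0) (cl q 3) &&
    adjB (cl q 1) (cl q 2) && adjB (cl q 1) (cl q 3) && adjB (cl q 2) (cl q 3)) = true := by
  decide +kernel

theorem cl_zero : (allN 112 fun j => !adjB 0 j || !allN 280 fun q =>
    clMask q != (getW 112 adjTab 0 &&& getW 112 adjTab j ||| 1 ||| 2 ^ j)) = true := by
  decide +kernel

theorem cl_distinct : (allN 280 fun q => allN q fun q' => clMask q' != clMask q) = true := by
  decide +kernel

theorem cl_act : (allN 2 fun g => allN 280 fun q => decide (clAct g q < 280) &&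
    imgMask (side_gens.getD g 0) (clMask q) 112 == clMask (clAct g q)) = true := by
  decide +kernel

theorem cl_path : (allN 280 fun q => decide (q = 0 ∨
    (getW 20 cliquePar q % 512 < 280 ∧ getW 20 cliquePar q >>> 9 % 16 < 2 ∧
      clAct (getW 20 cliquePar q >>> 9 % 16) (getW 20 cliquePar q % 512) = q ∧
      getW 20 cliquePar (getW 20 cliquePar q % 512) >>> 13 < getW 20 cliquePar q >>> 13))) = true := by
  decide +kernel

theorem fix_ok : (allN 2 fun w => okPerm 112 7 (fixPerms.getD w 0) &&
    (fixWords.getD w []).all (fun g => decide (g < 2)) && getW 7 (fixPerms.getD w 0) 0 == 0 &&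
    allN 112 fun x => getW 7 (fixPerms.getD w 0) x == wordFun (fixWords.getD w []) x) = true := by
  decide +kernel

theorem root_ok : (adjB 0 root30 && !adjB 0 root81 &&
    decide (root30 < 112 ∧ root81 < 112 ∧ root30 ≠ 0 ∧ root81 ≠ 0)) = true := by
  decide +kernel

theorem line_path : (allN 112 fun j => decide (j = 0 ∨ j = root30 ∨ j = root81 ∨
    (getW 20 linePar j % 512 < 112 ∧ getW 20 linePar j >>> 9 % 16 < 2 ∧
      getW 7 (fixPerms.getD (getW 20 linePar j >>> 9 % 16) 0) (getW 20 linePar j % 512) = j ∧
      getW 20 linePar (getW 20 linePar j % 512) >>> 13 < getW 20 linePar j >>> 13))) = true := by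
  decide +kernel

theorem line_count : ((Finset.univ : Finset (Fin 112)).filter fun j => adjB 0 j.1).card = 30 ∧
    ((Finset.univ : Finset (Fin 112)).filter fun j => j.1 ≠ 0 ∧ adjB 0 j.1 = false).card = 81 := by
  decide +kernel

theorem sigma_ok : (allN 4 fun i => okPerm 112 7 (sigmaTab.getD i 0) &&
    allN 112 fun x => allN 112 fun y => adjB (sg i x) (sg i y) == adjB x y) = true := by
  decide +kernel

theorem conj_ok : (allN 4 fun i => allN 2 fun g => allN 112 fun x =>
    decide (cj i g x < 112) && sg i (cj i g x) == gen g (sg i x)) = true := by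
  decide +kernel

theorem hAct_ok : (allN 4 fun i => allN 2 fun g => allN 162 fun j => decide (hAct i g j < 162) &&
    imgMask (conjTab.getD (2 * i + g) 0) (hm j) 112 == hm (hAct i g j)) = true := by
  decide +kernel

theorem hemi_path : (allN 4 fun i => allN 162 fun j => decide (j = 0 ∨
    (getW 20 (hemiPar.getD i 0) j % 512 < 162 ∧ getW 20 (hemiPar.getD i 0) j >>> 9 % 16 < 2 ∧
      hAct i (getW 20 (hemiPar.getD i 0) j >>> 9 % 16) (getW 20 (hemiPar.getD i 0) j % 512) = j ∧
      getW 20 (hemiPar.getD i 0) (getW 20 (hemiPar.getD i 0) j % 512) >>> 13 <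
        getW 20 (hemiPar.getD i 0) j >>> 13))) = true := by
  decide +kernel

theorem hm_distinct : (allN 162 fun j => allN j fun k => hm k != hm j) = true := by
  decide +kernel

theorem hm_size : pop (hm 0) = 56 ∧
    (allN 112 fun b => !(hm 0).testBit b || pop (hm 0 &&& getW 112 adjTab b) == 10) = true := by
  decide +kernel

theorem hm_meet : (allN 162 fun j => decide (j = 0) || pop (hm 0 &&& hm j) == 20 ||
    pop (hm 0 &&& hm j) == 32) = true := by
  decide +kernel

theorem hm_twenty : ((Finset.univ : Finset (Fin 162)).filter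
    fun j => j.1 ≠ 0 ∧ pop (hm 0 &&& hm j.1) = 20).card = 56 := by
  decide +kernel

/-- An entry of the ordering. -/
def bs (k : ℕ) : ℕ := getW 7 baseTab k

/-- The candidates for the image of an entry of the ordering, given the previous ones. -/
def candMask (k : ℕ) : ℕ :=
  Nat.rec full (fun l acc => acc &&& (bif adjB (bs l) (bs k) then getW 112 adjTab (bs l)
    else full ^^^ (2 ^ bs l ||| getW 112 adjTab (bs l)))) k

theorem base_ok : (okPerm 112 7 baseTab &&
    allN 112 fun k => decide (pop (candMask k) ≤ getW 7 baseCnt k)) = true := by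
  decide +kernel

theorem base_prod : ((List.range 112).map fun k => getW 7 baseCnt k).prod = 26127360 := by
  decide +kernel

/-! ### The search -/

/-- The number of entries of a clique in a mask. -/
def inCl (m q : ℕ) : ℕ := (m.testBit (cl q 0)).toNat + (m.testBit (cl q 1)).toNat +
  (m.testBit (cl q 2)).toNat + (m.testBit (cl q 3)).toNat

/-- The part of a clique outside a mask. -/
def outCl (m q : ℕ) : ℕ := clMask q ^^^ (clMask q &&& m)

/-- The propagation steps. -/
def stepsC : ℕ → ℕ → ℕ → ℕ → (ℕ → ℕ → Bool) → Bool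
  | 0, _, o, z, k => k o z
  | n + 1, c, o, z, k =>
    let q := c % 512
    decide (q < 280) &&
      (decide (2 < inCl o q) || decide (2 < inCl z q) ||
        bif inCl o q == 2 then stepsC n (c >>> 9) o (z ||| outCl o q) k
        else bif inCl z q == 2 then stepsC n (c >>> 9) (o ||| outCl z q) z k
        else false)

/-- The checker of a search tree. -/
def chk : Tr → ℕ → ℕ → Bool
  | .bad, _, _ => false
  | .leaf a b, o, z => decide (a < 648) && decide (b < 648) && o ||| z == full && o == mk a && z == mk b
  | .split v l r, o, z => chk l (o ||| 2 ^ v) z && chk r o (z ||| 2 ^ v)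
  | .steps len code t, o, z => stepsC len code o z (chk t)

theorem tree_ok : chk hemiTree 1 0 = true := by decide +kernel

end Cfsg.Agent.Lib.McLRankThree18
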