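import Cfsg.Agent.Lib.McLRankThree18.Cert

/-! The sets of lines meeting every clique in two lines. -/

set_option autoImplicit false
set_option maxRecDepth 20000

namespace Cfsg.Agent.Lib.McLRankThree18

/-- A set meeting every clique in two lines. -/
def Half (T : ℕ → Bool) : Prop :=
  ∀ q < 280, (T (cl q 0)).toNat + (T (cl q 1)).toNat + (T (cl q 2)).toNat + (T (cl q 3)).toNat = 2

/-- Masks of known members and known non-members. -/
def Inv (T : ℕ → Bool) (o z : ℕ) : Prop :=
  (∀ i, o.testBit i = true → T i = true) ∧ (∀ i, z.testBit i = true → T i = false)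

theorem outCl_testBit (m q i : ℕ) : (outCl m q).testBit i = true ↔
    (cl q 0 = i ∨ cl q 1 = i ∨ cl q 2 = i ∨ cl q 3 = i) ∧ m.testBit i = false := by
  simp only [outCl, clMask, Nat.testBit_xor, Nat.testBit_and, Nat.testBit_or, Nat.testBit_two_pow]
  cases m.testBit i <;> simp [or_assoc]

theorem four_gt (a b c d A B C D : Bool) (ha : a = true → A = true) (hb : b = true → B = true)
    (hc : c = true → C = true) (hd : d = true → D = true) :
    a.toNat + b.toNat + c.toNat + d.toNat ≤ A.toNat + B.toNat + C.toNat + D.toNat := by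
  cases a <;> cases b <;> cases c <;> cases d <;> simp_all <;>
    (cases A <;> cases B <;> cases C <;> cases D <;> simp_all)

theorem four_eq : ∀ a b c d A B C D : Bool, (a = true → A = true) → (b = true → B = true) →
    (c = true → C = true) → (d = true → D = true) →
    a.toNat + b.toNat + c.toNat + d.toNat = A.toNat + B.toNat + C.toNat + D.toNat →
    a = A ∧ b = B ∧ c = C ∧ d = D := by decide

theorem toNat_not (b : Bool) : (!b).toNat = 1 - b.toNat := by cases b <;> rfl

theorem half_not {T : ℕ → Bool} (hT : Half T) : Half fun i => !T i := by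
  intro q hq
  have := hT q hq
  simp only [toNat_not]
  have h1 := (T (cl q 0)).toNat_le
  have h2 := (T (cl q 1)).toNat_le
  have h3 := (T (cl q 2)).toNat_le
  have h4 := (T (cl q 3)).toNat_le
  omega

theorem inCl_le {T : ℕ → Bool} (hT : Half T) {o q : ℕ} (hq : q < 280)
    (ho : ∀ i, o.testBit i = true → T i = true) : inCl o q ≤ 2 :=
  (four_gt _ _ _ _ _ _ _ _ (ho _) (ho _) (ho _) (ho _)).trans (hT q hq).le

theorem outCl_false {T : ℕ → Bool} (hT : Half T) {o q : ℕ} (hq : q < 280)
    (ho : ∀ i, o.testBit i = true → T i = true) (h2 : inCl o q = 2) :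
    ∀ i, (outCl o q).testBit i = true → T i = false := by
  intro i hi
  obtain ⟨e0, e1, e2, e3⟩ := four_eq _ _ _ _ _ _ _ _ (ho (cl q 0)) (ho (cl q 1)) (ho (cl q 2))
    (ho (cl q 3)) (h2.trans (hT q hq).symm)
  obtain ⟨hc, hb⟩ := (outCl_testBit o q i).1 hi
  rcases hc with rfl | rfl | rfl | rfl
  · rw [← e0]; exact hb
  · rw [← e1]; exact hb
  · rw [← e2]; exact hb
  · rw [← e3]; exact hb

theorem inv_or_right {T : ℕ → Bool} {o z m : ℕ} (h : Inv T o z)
    (hm : ∀ i, m.testBit i = true → T i = false) : Inv T o (z ||| m) := by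
  refine ⟨h.1, fun i hi => ?_⟩
  rw [Nat.testBit_or, Bool.or_eq_true] at hi
  rcases hi with hi | hi
  · exact h.2 i hi
  · exact hm i hi

theorem inv_or_left {T : ℕ → Bool} {o z m : ℕ} (h : Inv T o z)
    (hm : ∀ i, m.testBit i = true → T i = true) : Inv T (o ||| m) z := by
  refine ⟨fun i hi => ?_, h.2⟩
  rw [Nat.testBit_or, Bool.or_eq_true] at hi
  rcases hi with hi | hi
  · exact h.1 i hi
  · exact hm i hi

theorem stepsC_sound {T : ℕ → Bool} (hT : Half T) {P : Prop} {k : ℕ → ℕ → Bool}
    (hk : ∀ o z, k o z = true → Inv T o z → P) :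
    ∀ n c o z, stepsC n c o z k = true → Inv T o z → P := by
  intro n
  induction n with
  | zero => exact fun c o z h hi => hk o z h hi
  | succ n ih =>
    intro c o z h hi
    simp only [stepsC, Bool.and_eq_true, Bool.or_eq_true, decide_eq_true_eq] at h
    obtain ⟨hq, h⟩ := h
    have hz : ∀ i, z.testBit i = true → (fun i => !T i) i = true := fun i hi' => by
      simp [hi.2 i hi']
    rcases h with (h | h) | h
    · exact absurd (inCl_le hT hq hi.1) (by omega)
    · exact absurd (inCl_le (half_not hT) hq hz) (by omega)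
    · cases h1 : (inCl o (c % 512) == 2)
      · rw [h1, cond_false] at h
        cases h2 : (inCl z (c % 512) == 2)
        · rw [h2, cond_false] at h
          exact absurd h Bool.false_ne_true
        · rw [h2, cond_true] at h
          refine ih _ _ _ h (inv_or_left hi fun i hi' => ?_)
          have := outCl_false (half_not hT) hq hz (by simpa using h2) i hi'
          simpa using this
      · rw [h1, cond_true] at h
        exact ih _ _ _ h (inv_or_right hi (outCl_false hT hq hi.1 (by simpa using h1)))

theorem chk_sound {T : ℕ → Bool} (hT : Half T) : ∀ t o z, chk t o z = true → Inv T o z →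
    ∃ a b, a < 648 ∧ b < 648 ∧ ∀ i < 112, T i = (mk a).testBit i ∧ (!T i) = (mk b).testBit i := by
  intro t
  induction t with
  | bad => intro o z h; simp [chk] at h
  | leaf a b =>
    intro o z h hi
    simp only [chk, Bool.and_eq_true, decide_eq_true_eq, beq_iff_eq] at h
    obtain ⟨⟨⟨⟨ha, hb⟩, hf⟩, rfl⟩, rfl⟩ := h
    refine ⟨a, b, ha, hb, fun i hlt => ?_⟩
    have hbit : ((mk a) ||| (mk b)).testBit i = true := by
      rw [hf, full, Nat.testBit_two_pow_sub_one]
      simp [hlt]
    rw [Nat.testBit_or, Bool.or_eq_true] at hbit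
    cases hA : (mk a).testBit i
    · have hB := hbit.resolve_left (by simp [hA])
      simp [hi.2 i hB, hB]
    · have hTi := hi.1 i hA
      refine ⟨hTi, ?_⟩
      cases hB : (mk b).testBit i
      · simp [hTi]
      · exact absurd ((hi.2 i hB).symm.trans hTi) Bool.false_ne_true
  | split v l r ihl ihr =>
    intro o z h hi
    simp only [chk, Bool.and_eq_true] at h
    cases hv : T v
    · refine ihr _ _ h.2 (inv_or_right hi fun i hi' => ?_)
      rw [Nat.testBit_two_pow, decide_eq_true_eq] at hi'
      rw [← hi']; exact hv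
    · refine ihl _ _ h.1 (inv_or_left hi fun i hi' => ?_)
      rw [Nat.testBit_two_pow, decide_eq_true_eq] at hi'
      rw [← hi']; exact hv
  | steps len code t ih =>
    intro o z h hi
    exact stepsC_sound hT ih len code o z h hi

/-- A set meeting every clique in two lines is one of the 648 sets of the list. -/
theorem half_mem {T : ℕ → Bool} (hT : Half T) :
    ∃ a < 648, ∀ i < 112, T i = (mk a).testBit i := by
  have hone : ∀ i, (1 : ℕ).testBit i = true → i = 0 := fun i h => Nat.testBit_one_eq_true_iff_self_eq_zero.1 h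
  cases h0 : T 0
  · obtain ⟨a, b, -, hb, h⟩ := chk_sound (half_not hT) hemiTree 1 0 tree_ok
      ⟨fun i hi => by rw [hone i hi]; simp [h0], fun i hi => by simp at hi⟩
    exact ⟨b, hb, fun i hi => by simpa using (h i hi).2⟩
  · obtain ⟨a, b, ha, -, h⟩ := chk_sound hT hemiTree 1 0 tree_ok
      ⟨fun i hi => by rw [hone i hi]; exact h0, fun i hi => by simp at hi⟩
    exact ⟨a, ha, fun i hi => (h i hi).1⟩

end Cfsg.Agent.Lib.McLRankThree18
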