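import Cfsg.Agent.Lib.McLRankThree18.Cert

/-! The unitary group on the 112 lines, and its transitive actions of degree 112. -/

set_option autoImplicit false
set_option maxRecDepth 20000

namespace Cfsg.Agent.Lib.McLRankThree18

open Cfsg.Agent.Lib.Computation (getW okPerm decodeP decodeP_apply permRep)
open Cfsg.Agent.Lib.LatticeUnitary.U4 (side_gens side_steps side_chain side_check par)
open scoped Pointwise

/-- A generator as a permutation. -/
noncomputable def gP (g : Fin 2) : Equiv.Perm (Fin 112) := decodeP 112 7 (side_gens.getD g.1 0)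

theorem gP_val (g : Fin 2) (x : Fin 112) : (gP g x : ℕ) = gen g.1 x.1 := by
  refine decodeP_apply ?_ x
  have h := gen_ok
  simp only [Bool.and_eq_true] at h
  fin_cases g
  · exact h.1
  · exact h.2

/-- The group on the lines. -/
noncomputable def U : Subgroup (Equiv.Perm (Fin 112)) := Subgroup.closure (Set.range gP)

theorem gP_mem (g : Fin 2) : gP g ∈ U := Subgroup.subset_closure ⟨g, rfl⟩

theorem card_U : Nat.card ↥U = 3265920 := by
  have hc := (permRep 112 7 (by decide)).card_closure side_check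
  have ho : (permRep 112 7 (by decide)).order side_chain = 3265920 := by decide +kernel
  rw [ho] at hc
  have e : U = Subgroup.closure ((permRep 112 7 (by decide)).val '' {c | c ∈ side_gens}) := by
    refine congrArg Subgroup.closure (Set.ext fun p => ?_)
    have hl : side_gens.length = 2 := rfl
    constructor
    · rintro ⟨g, rfl⟩
      refine ⟨side_gens.getD g.1 0, ?_, rfl⟩
      have hlt : g.1 < side_gens.length := by rw [hl]; exact g.2
      rw [Set.mem_ofPred_eq, List.getD_eq_getElem _ _ hlt]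
      exact List.getElem_mem _
    · rintro ⟨c, hc', rfl⟩
      obtain ⟨i, hi, rfl⟩ := List.mem_iff_getElem.1 hc'
      exact ⟨⟨i, by rw [← hl]; exact hi⟩, by rw [gP, List.getD_eq_getElem _ _ hi]⟩
  rw [e, hc]

theorem adj_facts {i j : ℕ} (hi : i < 112) (hj : j < 112) :
    adjB i i = false ∧ adjB i j = adjB j i ∧ adjB (gen 0 i) (gen 0 j) = adjB i j ∧
      adjB (gen 1 i) (gen 1 j) = adjB i j := by
  have h := allN_iff.1 adj_ok i hi
  simp only [Bool.and_eq_true, Bool.not_eq_eq_eq_not, Bool.not_true] at h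
  have h' := allN_iff.1 h.2 j hj
  simp only [Bool.and_eq_true, beq_iff_eq] at h'
  exact ⟨h.1, h'.1.1, h'.1.2, h'.2⟩

theorem adjB_irrefl (i : Fin 112) : adjB i i = false := (adj_facts i.2 i.2).1

theorem adjB_comm (i j : Fin 112) : adjB i j = adjB j i := (adj_facts i.2 j.2).2.1

theorem adjB_U {u : Equiv.Perm (Fin 112)} (hu : u ∈ U) :
    ∀ i j : Fin 112, adjB (u i) (u j) = adjB i j := by
  induction hu using Subgroup.closure_induction with
  | mem p hp =>
    obtain ⟨g, rfl⟩ := hp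
    intro i j
    rw [gP_val, gP_val]
    fin_cases g
    · exact (adj_facts i.2 j.2).2.2.1
    · exact (adj_facts i.2 j.2).2.2.2
  | one => intro i j; rfl
  | mul a b _ _ ha hb => intro i j; exact (ha _ _).trans (hb i j)
  | inv a _ ha => intro i j; simpa using (ha (a⁻¹ i) (a⁻¹ j)).symm

theorem smul_def' (u : ↥U) (i : Fin 112) : u • i = u.1 i := rfl

theorem adjB_smul (u : ↥U) (i j : Fin 112) :
    adjB (u • i : Fin 112) (u • j : Fin 112) = adjB i j := adjB_U u.2 i j

theorem transitive (j : Fin 112) : ∃ u : ↥U, u • (0 : Fin 112) = j := by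
  suffices H : ∀ d, ∀ j : Fin 112, getW 16 par j >>> 8 = d → ∃ u : ↥U, u • (0 : Fin 112) = j from
    H _ j rfl
  intro d
  induction d using Nat.strong_induction_on with
  | _ d ih =>
    intro j hd
    rcases of_decide_eq_true (allN_iff.1 gen_path j.1 j.2) with h | ⟨hp, hj, hlt⟩
    · exact ⟨1, Fin.ext h.symm⟩
    · obtain ⟨u, hu⟩ := ih _ (hd ▸ hlt) ⟨_, hp⟩ rfl
      refine ⟨⟨gP ⟨getW 16 par j >>> 7 % 2, Nat.mod_lt _ (by norm_num)⟩, gP_mem _⟩ * u, ?_⟩
      rw [mul_smul, hu]
      exact Fin.ext ((gP_val _ _).trans hj)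

instance : MulAction.IsPretransitive ↥U (Fin 112) := ⟨fun i j => by
  obtain ⟨u, hu⟩ := transitive i
  obtain ⟨v, hv⟩ := transitive j
  exact ⟨v * u⁻¹, by rw [mul_smul, inv_smul_eq_iff.2 hu.symm, hv]⟩⟩

/-- The stabiliser of the first line. -/
noncomputable abbrev U0 : Subgroup ↥U := MulAction.stabilizer ↥U (0 : Fin 112)

theorem card_U0 : Nat.card ↥U0 = 29160 := by
  have h := (MulAction.stabilizer ↥U (0 : Fin 112)).card_mul_index
  rw [MulAction.index_stabilizer_of_transitive, card_U, Nat.card_fin] at h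
  show Nat.card ↥(MulAction.stabilizer ↥U (0 : Fin 112)) = 29160
  omega

theorem wordFun_mem : ∀ w : List ℕ, (∀ g ∈ w, g < 2) →
    ∃ u : ↥U, ∀ x : Fin 112, ((u • x : Fin 112) : ℕ) = wordFun w x := by
  intro w
  induction w with
  | nil => exact fun _ => ⟨1, fun x => rfl⟩
  | cons a w ih =>
    intro h
    obtain ⟨u, hu⟩ := ih fun g hg => h g (List.mem_cons_of_mem _ hg)
    refine ⟨⟨gP ⟨a, h a List.mem_cons_self⟩, gP_mem _⟩ * u, fun x => ?_⟩
    rw [mul_smul]
    refine (gP_val _ _).trans ?_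
    rw [hu]
    rfl

theorem fix_elt (w : Fin 2) :
    ∃ k : ↥U0, ∀ x : Fin 112, ((k • x : Fin 112) : ℕ) = getW 7 (fixPerms.getD w.1 0) x := by
  have h := allN_iff.1 fix_ok w.1 w.2
  simp only [Bool.and_eq_true, beq_iff_eq, List.all_eq_true, decide_eq_true_eq] at h
  obtain ⟨⟨⟨-, hw⟩, h0⟩, hx⟩ := h
  obtain ⟨u, hu⟩ := wordFun_mem _ hw
  have he : ∀ x : Fin 112, ((u • x : Fin 112) : ℕ) = getW 7 (fixPerms.getD w.1 0) x := fun x => by
    rw [hu]
    exact (beq_iff_eq.1 (allN_iff.1 hx x.1 x.2)).symm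
  refine ⟨⟨u, Fin.ext ?_⟩, he⟩
  rw [he]
  exact h0

/-- The class of a line with respect to the first one. -/
def rootOf (j : Fin 112) : Fin 112 :=
  if adjB 0 j then ⟨root30, by decide⟩ else ⟨root81, by decide⟩

theorem root_facts : adjB 0 root30 = true ∧ adjB 0 root81 = false := by
  have h := root_ok
  simp only [Bool.and_eq_true, Bool.not_eq_eq_eq_not, Bool.not_true] at h
  exact ⟨h.1.1, h.1.2⟩

theorem adjB_U0 (k : ↥U0) (j : Fin 112) : adjB 0 (k • j : Fin 112) = adjB 0 j := by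
  have h := adjB_smul k.1 0 j
  rw [show k.1 • (0 : Fin 112) = 0 from k.2] at h
  exact h

theorem class_orbit (j : Fin 112) (hj : j ≠ 0) : ∃ k : ↥U0, k • rootOf j = j := by
  suffices H : ∀ d, ∀ j : Fin 112, getW 20 linePar j >>> 13 = d → j ≠ 0 →
      ∃ k : ↥U0, k • rootOf j = j from H _ j rfl hj
  intro d
  induction d using Nat.strong_induction_on with
  | _ d ih =>
    intro j hd hj
    rcases of_decide_eq_true (allN_iff.1 line_path j.1 j.2) with h | h | h | ⟨hp, hg, hm, hlt⟩
    · exact absurd (Fin.ext h) hj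
    · refine ⟨1, ?_⟩
      rw [one_smul, rootOf, if_pos (by rw [h]; exact root_facts.1)]
      exact Fin.ext h.symm
    · refine ⟨1, ?_⟩
      rw [one_smul, rootOf, if_neg (by rw [h, root_facts.2]; exact Bool.false_ne_true)]
      exact Fin.ext h.symm
    · obtain ⟨k, hk⟩ := fix_elt ⟨_, hg⟩
      set i : Fin 112 := ⟨_, hp⟩
      have hki : k • i = j := Fin.ext ((hk i).trans hm)
      have hi : i ≠ 0 := fun e => hj (by
        rw [← hki, e]
        exact k.2)
      obtain ⟨k', hk'⟩ := ih _ (hd ▸ hlt) i rfl hi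
      have hr : rootOf j = rootOf i := by
        rw [← hki]
        unfold rootOf
        rw [adjB_U0]
      exact ⟨k * k', by rw [mul_smul, hr, hk', hki]⟩

theorem orbit_U0 (j : Fin 112) (hj : j ≠ 0) :
    (MulAction.orbit ↥U0 j).ncard = if adjB 0 j then 30 else 81 := by
  have e : MulAction.orbit ↥U0 j = {i : Fin 112 | i ≠ 0 ∧ adjB 0 i = adjB 0 j} := by
    ext i
    constructor
    · rintro ⟨k, rfl⟩
      refine ⟨fun e => hj ?_, adjB_U0 k j⟩
      exact (MulAction.injective k) (e.trans k.2.symm)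
    · rintro ⟨hi, hc⟩
      obtain ⟨k, hk⟩ := class_orbit j hj
      obtain ⟨k', hk'⟩ := class_orbit i hi
      have hr : rootOf i = rootOf j := by
        unfold rootOf
        rw [hc]
      refine ⟨k' * k⁻¹, ?_⟩
      show (k' * k⁻¹) • j = i
      rw [mul_smul, inv_smul_eq_iff.2 hk.symm, ← hr, hk']
  rw [e]
  obtain ⟨h30, h81⟩ := line_count
  cases hb : adjB 0 j
  · rw [if_neg (by simp), ← h81, ← Set.ncard_coe_finset]
    congr 1
    ext i
    rw [Set.mem_ofPred_eq, Finset.mem_coe, Finset.mem_filter]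
    exact ⟨fun h => ⟨Finset.mem_univ _, fun e => h.1 (Fin.ext e), h.2⟩,
      fun h => ⟨fun e => h.2.1 (congrArg Fin.val e), h.2.2⟩⟩
  · rw [if_pos (by simp), ← h30, ← Set.ncard_coe_finset]
    congr 1
    ext i
    simp only [Set.mem_ofPred_eq, Finset.coe_filter, Finset.mem_univ, true_and, and_iff_right_iff_imp]
    rintro h rfl
    exact Bool.false_ne_true ((adjB_irrefl (0 : Fin 112)).symm.trans h)

theorem card_stab_U0 (j : Fin 112) (hj : j ≠ 0) :
    Nat.card ↥(MulAction.stabilizer ↥U0 j) = if adjB 0 j then 972 else 360 := by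
  have h := (MulAction.stabilizer ↥U0 j).card_mul_index
  rw [MulAction.index_stabilizer, orbit_U0 j hj, card_U0] at h
  split_ifs at h ⊢ <;> omega

/-! ### Cliques -/

/-- A clique as a set. -/
def CS (q : ℕ) : Set (Fin 112) := {i | (clMask q).testBit i.1 = true}

theorem clMask_testBit (q i : ℕ) : (clMask q).testBit i = true ↔
    cl q 0 = i ∨ cl q 1 = i ∨ cl q 2 = i ∨ cl q 3 = i := by
  simp only [clMask, Nat.testBit_or, Nat.testBit_two_pow, Bool.or_eq_true, decide_eq_true_eq, or_assoc]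

theorem cl_lt {q : ℕ} (hq : q < 280) :
    cl q 0 < 112 ∧ cl q 1 < 112 ∧ cl q 2 < 112 ∧ cl q 3 < 112 := by
  have h := allN_iff.1 cl_ok q hq
  simp only [Bool.and_eq_true, decide_eq_true_eq] at h
  exact h.1.1.1.1.1.1

theorem CS_ncard_le {q : ℕ} (hq : q < 280) : (CS q).ncard ≤ 4 := by
  classical
  obtain ⟨a, b, c, d⟩ := cl_lt hq
  have hsub : CS q ⊆ ↑({⟨_, a⟩, ⟨_, b⟩, ⟨_, c⟩, ⟨_, d⟩} : Finset (Fin 112)) := by
    intro i hi
    simp only [Finset.coe_insert, Finset.coe_singleton, Set.mem_insert_iff, Set.mem_singleton_iff,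
      Fin.ext_iff]
    rcases (clMask_testBit q i).1 hi with e | e | e | e <;> omega
  refine (Set.ncard_le_ncard hsub).trans ?_
  rw [Set.ncard_coe_finset]
  exact Finset.card_le_four

theorem CS_inj {q q' : ℕ} (hq : q < 280) (hq' : q' < 280) (h : CS q = CS q') : q = q' := by
  have e : clMask q = clMask q' := by
    refine Nat.eq_of_testBit_eq fun i => ?_
    rcases Nat.lt_or_ge i 112 with hi | hi
    · exact Bool.eq_iff_iff.2 (Set.ext_iff.1 h ⟨i, hi⟩)
    · have hf : ∀ q, q < 280 → (clMask q).testBit i = false := fun q hq => by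
        obtain ⟨a, b, c, d⟩ := cl_lt hq
        rw [← Bool.not_eq_true, clMask_testBit]
        omega
      rw [hf q hq, hf q' hq']
  rcases lt_trichotomy q q' with h' | h' | h'
  · have := allN_iff.1 (allN_iff.1 cl_distinct q' hq') q h'
    simp [e] at this
  · exact h'
  · have := allN_iff.1 (allN_iff.1 cl_distinct q hq) q' h'
    simp [e] at this

theorem gP_CS (g : Fin 2) {q : ℕ} (hq : q < 280) :
    clAct g.1 q < 280 ∧ (⟨gP g, gP_mem g⟩ : ↥U) • CS q = CS (clAct g.1 q) := by
  have h := allN_iff.1 (allN_iff.1 cl_act g.1 g.2) q hq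
  simp only [Bool.and_eq_true, decide_eq_true_eq, beq_iff_eq] at h
  refine ⟨h.1, ?_⟩
  ext i
  show i ∈ _ ↔ (clMask _).testBit i.1 = true
  rw [← h.2, testBit_imgMask, Set.mem_smul_set]
  constructor
  · rintro ⟨x, hx, rfl⟩
    exact ⟨x.1, x.2, hx, ((gP_val g x)).symm⟩
  · rintro ⟨x, hx, hb, e⟩
    exact ⟨⟨x, hx⟩, hb, Fin.ext ((gP_val g ⟨x, hx⟩).trans e)⟩

theorem CS_orbit {q : ℕ} (hq : q < 280) : ∃ u : ↥U, u • CS 0 = CS q := by
  suffices H : ∀ d, ∀ q < 280, getW 20 cliquePar q >>> 13 = d → ∃ u : ↥U, u • CS 0 = CS q from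
    H _ q hq rfl
  intro d
  induction d using Nat.strong_induction_on with
  | _ d ih =>
    intro q hq hd
    rcases of_decide_eq_true (allN_iff.1 cl_path q hq) with h | ⟨hp, hg, hm, hlt⟩
    · exact ⟨1, by rw [one_smul, h]⟩
    · obtain ⟨u, hu⟩ := ih _ (hd ▸ hlt) _ hp rfl
      refine ⟨⟨gP ⟨_, hg⟩, gP_mem _⟩ * u, ?_⟩
      rw [mul_smul, hu, (gP_CS ⟨_, hg⟩ hp).2, hm]

theorem card_stab_CS {q : ℕ} (hq : q < 280) :
    Nat.card ↥(MulAction.stabilizer ↥U (CS q)) ≤ 11664 := by
  have h := (MulAction.stabilizer ↥U (CS q)).card_mul_index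
  rw [MulAction.index_stabilizer, card_U] at h
  have hsub : (fun p : Fin 280 => CS p.1) '' Set.univ ⊆ MulAction.orbit ↥U (CS q) := by
    rintro _ ⟨p, -, rfl⟩
    obtain ⟨u, hu⟩ := CS_orbit hq
    obtain ⟨v, hv⟩ := CS_orbit p.2
    exact ⟨v * u⁻¹, by rw [← hu]; simp [mul_smul, hv]⟩
  have hc := Set.ncard_le_ncard hsub
  rw [Set.ncard_image_of_injective _ (fun p p' e => Fin.ext (CS_inj p.2 p'.2 e)), Set.ncard_univ,
    Nat.card_eq_fintype_card, Fintype.card_fin] at hc
  nlinarith

/-! ### Actions of degree 112 -/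

theorem exists_equivariant {O : Type*} [MulAction ↥U O] [MulAction.IsPretransitive ↥U O]
    (hO : Nat.card O = 112) : ∃ ν : Fin 112 ≃ O, ∀ (u : ↥U) i, ν (u • i) = u • ν i := by
  classical
  haveI : Finite O := Nat.finite_of_card_ne_zero (by omega)
  obtain ⟨x0⟩ : Nonempty O := (Nat.card_pos_iff.1 (by omega)).1
  have hcs : ∀ x : O, Nat.card ↥(MulAction.stabilizer ↥U x) = 29160 := fun x => by
    have h := (MulAction.stabilizer ↥U x).card_mul_index
    rw [MulAction.index_stabilizer_of_transitive, card_U, hO] at h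
    omega
  -- a Sylow subgroup fixing a point of both sets
  obtain ⟨x1, Q, hQ, hQx, hQ0⟩ : ∃ (x : O) (Q : Subgroup ↥U), Nat.card Q = 729 ∧
      (∀ u ∈ Q, u • x = x) ∧ (∀ u ∈ Q, u • (0 : Fin 112) = 0) := by
    haveI : Fact (Nat.Prime 3) := ⟨by norm_num⟩
    obtain ⟨P, hP⟩ := Sylow.exists_subgroup_card_pow_prime (G := ↥(MulAction.stabilizer ↥U x0))
      (n := 6) 3 (by rw [hcs]; norm_num)
    set R := P.map (MulAction.stabilizer ↥U x0).subtype with hRdef
    have hR : Nat.card R = 729 := by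
      rw [hRdef, ← Nat.card_congr (P.equivMapOfInjective _ Subtype.val_injective).toEquiv, hP]
      norm_num
    obtain ⟨L, hL⟩ := (IsPGroup.of_card (p := 3) (n := 6) (by rw [hR]; norm_num :
      Nat.card R = 3 ^ 6)).nonempty_fixed_point_of_prime_not_dvd_card (Fin 112)
      (by rw [Nat.card_eq_fintype_card, Fintype.card_fin]; norm_num)
    obtain ⟨u, hu⟩ := MulAction.exists_smul_eq ↥U L (0 : Fin 112)
    refine ⟨u • x0, R.map (MulAut.conj u).toMonoidHom, ?_, ?_, ?_⟩
    · rw [← Nat.card_congr (R.equivMapOfInjective _ (MulAut.conj u).injective).toEquiv, hR]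
    · rintro _ ⟨r, hr, rfl⟩
      obtain ⟨p, -, rfl⟩ := hr
      simp only [MulEquiv.coe_toMonoidHom, MulAut.conj_apply, mul_smul, inv_smul_smul]
      rw [show (MulAction.stabilizer ↥U x0).subtype p • x0 = x0 from p.2]
    · rintro _ ⟨r, hr, rfl⟩
      simp only [MulEquiv.coe_toMonoidHom, MulAut.conj_apply, mul_smul, inv_smul_eq_iff.2 hu.symm]
      rw [show r • L = L from hL ⟨r, hr⟩, hu]
  set M := MulAction.stabilizer ↥U x1
  set T := MulAction.orbit ↥M (0 : Fin 112) with hT
  have hQM : Q ≤ M := fun u hu => hQx u hu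
  have hsz : T.ncard ≤ 40 := by
    have h := (MulAction.stabilizer ↥M (0 : Fin 112)).card_mul_index
    rw [MulAction.index_stabilizer, hcs x1] at h
    have hle : 729 ≤ Nat.card ↥(MulAction.stabilizer ↥M (0 : Fin 112)) := by
      rw [← hQ]
      exact Nat.card_le_card_of_injective
        (fun q => ⟨⟨q.1, hQM q.2⟩, hQ0 q.1 q.2⟩)
        (fun a b e => Subtype.ext (congrArg (fun z => z.1.1) e))
    rw [← hT] at h
    nlinarith
  have hQorb : ∀ y : Fin 112, y ≠ 0 →
      (if adjB 0 y then 3 else 81) ≤ (MulAction.orbit ↥Q y).ncard := by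
    intro y hy
    have h := (MulAction.stabilizer ↥Q y).card_mul_index
    rw [MulAction.index_stabilizer, hQ] at h
    have hd : Nat.card ↥(MulAction.stabilizer ↥Q y) ∣
        Nat.gcd 729 (Nat.card ↥(MulAction.stabilizer ↥U0 y)) := by
      refine Nat.dvd_gcd ⟨_, h.symm⟩ ?_
      exact Subgroup.card_dvd_of_injective
        (MonoidHom.mk' (fun q : ↥(MulAction.stabilizer ↥Q y) =>
          (⟨⟨q.1.1, hQ0 _ q.1.2⟩, q.2⟩ : ↥(MulAction.stabilizer ↥U0 y))) fun _ _ => rfl)
        (fun a b e => Subtype.ext (Subtype.ext (congrArg (fun z => z.1.1) e)))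
    rw [card_stab_U0 y hy] at hd
    split_ifs at hd ⊢
    · rw [show Nat.gcd 729 972 = 243 from rfl] at hd
      have hle := Nat.le_of_dvd (by norm_num) hd
      nlinarith
    · rw [show Nat.gcd 729 360 = 9 from rfl] at hd
      have hle := Nat.le_of_dvd (by norm_num) hd
      nlinarith
  have hQT : ∀ y ∈ T, MulAction.orbit ↥Q y ⊆ T := by
    rintro y hy _ ⟨q, rfl⟩
    obtain ⟨m, rfl⟩ := hy
    exact ⟨⟨q.1, hQM q.2⟩ * m, mul_smul _ _ _⟩
  have hnbr : ∀ y ∈ T, y ≠ 0 → adjB 0 y = true := by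
    intro y hy hy0
    by_contra hb
    have h := hQorb y hy0
    rw [if_neg hb] at h
    have := Set.ncard_le_ncard (hQT y hy)
    omega
  have hM0 : ∀ m : ↥M, m • (0 : Fin 112) = 0 := by
    by_contra hc
    push Not at hc
    obtain ⟨m0, hm0⟩ := hc
    set b := m0 • (0 : Fin 112) with hb
    have hbT : b ∈ T := MulAction.mem_orbit _ _
    have hb1 := hnbr b hbT hm0
    have hall : ∀ x ∈ T, ∀ y ∈ T, x ≠ y → adjB x y = true := by
      rintro x ⟨m, rfl⟩ y hy hne
      have hy' : m⁻¹ • y ∈ T := by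
        obtain ⟨m', rfl⟩ := hy
        exact ⟨m⁻¹ * m', mul_smul _ _ _⟩
      have hne' : m⁻¹ • y ≠ 0 := fun e => hne (inv_smul_eq_iff.1 e).symm
      have h := adjB_smul (m : ↥U) 0 (m⁻¹ • y)
      have hmy : (m : ↥U) • (m⁻¹ • y) = y := smul_inv_smul m y
      rw [hmy] at h
      exact h.trans (hnbr _ hy' hne')
    obtain ⟨q, hq, hqe⟩ : ∃ q < 280, clMask q =
        getW 112 adjTab 0 &&& getW 112 adjTab b ||| 1 ||| 2 ^ b.1 := by
      have h := allN_iff.1 cl_zero b.1 b.2
      rw [show adjB 0 b.1 = true from hb1] at h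
      by_contra hn
      push Not at hn
      rw [allN_iff.2 fun q hq => by simpa using hn q hq] at h
      exact absurd h (by decide)
    have hTC : T ⊆ CS q := by
      intro y hy
      show (clMask q).testBit y.1 = true
      rw [hqe]
      simp only [Nat.testBit_or, Nat.testBit_and, Bool.or_eq_true, Bool.and_eq_true]
      by_cases hy0 : y = 0
      · exact Or.inl (Or.inr (by subst hy0; rfl))
      by_cases hyb : y = b
      · exact Or.inr (by subst hyb; simp)
      exact Or.inl (Or.inl ⟨hnbr y hy hy0, hall b hbT y hy (Ne.symm hyb)⟩)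
    have h4 : 4 ≤ T.ncard := by
      have h3 := hQorb b hm0
      rw [if_pos hb1] at h3
      have hsub : insert (0 : Fin 112) (MulAction.orbit ↥Q b) ⊆ T :=
        Set.insert_subset (MulAction.mem_orbit_self _) (hQT b hbT)
      have := Set.ncard_le_ncard hsub
      have hn : (0 : Fin 112) ∉ MulAction.orbit ↥Q b := by
        rintro ⟨r, hr⟩
        exact hm0 (MulAction.injective r (hr.trans (hQ0 r.1 r.2).symm))
      rw [Set.ncard_insert_of_notMem hn] at this
      omega
    have heq : T = CS q := Set.eq_of_subset_of_ncard_le hTC ((CS_ncard_le hq).trans h4)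
    have hle : M ≤ MulAction.stabilizer ↥U (CS q) := by
      intro m hm
      rw [MulAction.mem_stabilizer_iff, ← heq]
      exact MulAction.smul_orbit (⟨m, hm⟩ : ↥M) (0 : Fin 112)
    have := (Subgroup.card_le_of_le hle).trans (card_stab_CS hq)
    rw [hcs x1] at this
    omega
  have hMU : M = U0 := Subgroup.eq_of_le_of_card_ge (fun m hm => hM0 ⟨m, hm⟩)
    (le_of_eq (card_U0.trans (hcs x1).symm))
  choose v hv using fun i : Fin 112 => MulAction.exists_smul_eq ↥U (0 : Fin 112) i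
  have hinj : Function.Injective fun i => v i • x1 := by
    intro i j e
    have : (v j)⁻¹ * v i ∈ U0 := by
      rw [← hMU]
      show ((v j)⁻¹ * v i) • x1 = x1
      rw [mul_smul, inv_smul_eq_iff]
      exact e
    have h : ((v j)⁻¹ * v i) • (0 : Fin 112) = 0 := this
    rwa [mul_smul, hv i, inv_smul_eq_iff, hv j] at h
  refine ⟨Equiv.ofBijective _ ((Nat.bijective_iff_injective_and_card _).2
    ⟨hinj, by rw [hO, Nat.card_eq_fintype_card, Fintype.card_fin]⟩), fun u i => ?_⟩
  show v (u • i) • x1 = u • v i • x1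
  have h : (v (u • i))⁻¹ * (u * v i) ∈ M := by
    rw [hMU]
    show ((v (u • i))⁻¹ * (u * v i)) • (0 : Fin 112) = 0
    rw [mul_smul, mul_smul, hv i, inv_smul_eq_iff, hv]
  have h' : ((v (u • i))⁻¹ * (u * v i)) • x1 = x1 := h
  rw [mul_smul, inv_smul_eq_iff, mul_smul] at h'
  exact h'.symm

end Cfsg.Agent.Lib.McLRankThree18
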