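import Cfsg.Agent.Lib.McLRankThree18.Cert

/-! The graph on 275 points built from the tables, and a bound on its automorphisms. -/

set_option autoImplicit false
set_option maxRecDepth 20000

namespace Cfsg.Agent.Lib.McLRankThree18

open Cfsg.Agent.Lib.Computation (getW okPerm decodeP decodeP_apply)

/-- The points. -/
abbrev SV : Type := Option (Fin 112 ⊕ Fin 162)

/-- Adjacency of two points. -/
def stdB : SV → SV → Bool
  | none, some (.inl _) => true
  | some (.inl _), none => true
  | some (.inl i), some (.inl j) => adjB i.1 j.1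
  | some (.inl i), some (.inr j) => (hm j.1).testBit i.1
  | some (.inr j), some (.inl i) => (hm j.1).testBit i.1
  | some (.inr j), some (.inr k) => decide (j ≠ k) && pop (hm j.1 &&& hm k.1) == 20
  | _, _ => false

/-- The automorphisms. -/
def autStd : Subgroup (Equiv.Perm SV) where
  carrier := {p | ∀ x y, stdB (p x) (p y) = stdB x y}
  one_mem' := fun _ _ => rfl
  mul_mem' := fun {p q} hp hq x y => (hp _ _).trans (hq x y)
  inv_mem' := fun {p} hp x y => by simpa using (hp (p⁻¹ x) (p⁻¹ y)).symm

theorem hm_eq_of {j k : Fin 162} (h : ∀ i < 112, (hm j.1).testBit i = (hm k.1).testBit i) : j = k := by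
  have e : hm j.1 = hm k.1 := by
    refine Nat.eq_of_testBit_eq fun i => ?_
    rcases Nat.lt_or_ge i 112 with hi | hi
    · exact h i hi
    · have hf : ∀ c : ℕ, (getW 112 hemiTab c).testBit i = false := fun c => by
        refine Nat.testBit_eq_false_of_lt (lt_of_lt_of_le ?_ (Nat.pow_le_pow_right (by norm_num) hi))
        exact Nat.mod_lt _ (Nat.two_pow_pos _)
      simp only [hm, hf]
  rcases lt_trichotomy j.1 k.1 with h' | h' | h'
  · have := allN_iff.1 (allN_iff.1 hm_distinct k.1 k.2) j.1 h'
    simp [e] at this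
  · exact Fin.ext h'
  · have := allN_iff.1 (allN_iff.1 hm_distinct j.1 j.2) k.1 h'
    simp [e] at this

/-- An entry of the ordering. -/
noncomputable def bsF : Equiv.Perm (Fin 112) := decodeP 112 7 baseTab

theorem bsF_val (k : Fin 112) : (bsF k : ℕ) = bs k.1 := by
  refine decodeP_apply ?_ k
  have h := base_ok
  simp only [Bool.and_eq_true] at h
  exact h.1

theorem candMask_testBit {y : Fin 112} : ∀ {k m : ℕ}, (∀ l < m, y.1 ≠ bs l ∧
    adjB (bs l) y.1 = adjB (bs l) (bs k)) → (Nat.rec full (fun l acc => acc &&&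
      (bif adjB (bs l) (bs k) then getW 112 adjTab (bs l)
        else full ^^^ (2 ^ bs l ||| getW 112 adjTab (bs l)))) m : ℕ).testBit y.1 = true := by
  intro k m
  induction m with
  | zero =>
    intro _
    show full.testBit y.1 = true
    rw [full, Nat.testBit_two_pow_sub_one]
    simp [y.2]
  | succ m ih =>
    intro h
    obtain ⟨h1, h2⟩ := h m (by omega)
    simp only [Nat.testBit_and, Bool.and_eq_true]
    refine ⟨ih fun l hl => h l (by omega), ?_⟩
    cases hb : adjB (bs m) (bs k)
    · rw [hb] at h2
      rw [cond_false, full, Nat.testBit_xor, Nat.testBit_or, Nat.testBit_two_pow_sub_one,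
        Nat.testBit_two_pow, decide_eq_true y.2, decide_eq_false (Ne.symm h1),
        show (getW 112 adjTab (bs m)).testBit y.1 = false from h2]
      rfl
    · rw [hb] at h2
      rw [cond_true]
      exact h2

/-- Stabilisers of initial segments of the ordering. -/
noncomputable def chain : ℕ → Subgroup (Equiv.Perm SV)
  | 0 => autStd ⊓ MulAction.stabilizer (Equiv.Perm SV) (none : SV)
  | k + 1 => chain k ⊓ MulAction.stabilizer (Equiv.Perm SV)
      (some (.inl (bsF (Fin.ofNat 112 k))) : SV)

theorem card_le_orbit_mul {α : Type*} [Finite α] (H : Subgroup (Equiv.Perm α)) (x : α) :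
    Nat.card H ≤ (MulAction.orbit H x).ncard *
      Nat.card ↥(H ⊓ MulAction.stabilizer (Equiv.Perm α) x) := by
  have h := (MulAction.stabilizer H x).card_mul_index
  rw [MulAction.index_stabilizer] at h
  rw [← h, mul_comm]
  refine Nat.mul_le_mul_left _ (Nat.card_le_card_of_injective
    (fun p => ⟨p.1.1, p.1.2, p.2⟩) fun a b e => ?_)
  exact Subtype.ext (Subtype.ext (congrArg (fun z => z.1) e))

theorem chain_mem : ∀ {k : ℕ}, k ≤ 112 → ∀ {p : Equiv.Perm SV}, p ∈ chain k →
    p ∈ autStd ∧ p none = none ∧
      ∀ l : Fin 112, l.1 < k → p (some (.inl (bsF l))) = some (.inl (bsF l)) := by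
  intro k
  induction k with
  | zero => exact fun _ p hp => ⟨hp.1, hp.2, fun l hl => absurd hl (by omega)⟩
  | succ k ih =>
    intro hk p hp
    obtain ⟨h1, h2, h3⟩ := ih (by omega) hp.1
    refine ⟨h1, h2, fun l hl => ?_⟩
    rcases Nat.lt_succ_iff_lt_or_eq.1 hl with hl | hl
    · exact h3 l hl
    · have e : Fin.ofNat 112 k = l := Fin.ext (by
        show k % 112 = l.1
        rw [Nat.mod_eq_of_lt (by omega), hl])
      have := hp.2
      rw [e] at this
      exact this

theorem inl_of_fix {p : Equiv.Perm SV} (hp : p ∈ autStd) (h0 : p none = none) (i : Fin 112) :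
    ∃ y : Fin 112, p (some (.inl i)) = some (.inl y) := by
  have h := hp none (some (.inl i))
  rw [h0] at h
  rcases hpi : p (some (.inl i)) with _ | y | j
  · rw [hpi] at h; exact absurd h (by simp [stdB])
  · exact ⟨y, rfl⟩
  · rw [hpi] at h; exact absurd h (by simp [stdB])

theorem chain_step (k : Fin 112) :
    Nat.card ↥(chain k.1) ≤ getW 7 baseCnt k.1 * Nat.card ↥(chain (k.1 + 1)) := by
  have hk : Fin.ofNat 112 k.1 = k := Fin.ext (Nat.mod_eq_of_lt k.2)
  refine (card_le_orbit_mul _ (some (.inl (bsF k)) : SV)).trans (Nat.mul_le_mul ?_ (le_of_eq ?_))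
  · have hb := base_ok
    simp only [Bool.and_eq_true] at hb
    refine le_trans ?_ (of_decide_eq_true (allN_iff.1 hb.2 k.1 k.2))
    have hsub : MulAction.orbit ↥(chain k.1) (some (.inl (bsF k)) : SV) ⊆
        ↑((Finset.univ.filter fun y : Fin 112 => (candMask k.1).testBit y.1).image
          fun y => (some (.inl y) : SV)) := by
      rintro _ ⟨⟨p, hp⟩, rfl⟩
      obtain ⟨hp1, hp0, hpl⟩ := chain_mem k.2.le hp
      obtain ⟨y, hy⟩ := inl_of_fix hp1 hp0 (bsF k)
      rw [Finset.coe_image]
      refine ⟨y, ?_, hy.symm⟩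
      rw [Finset.coe_filter]
      refine ⟨Finset.mem_univ _, candMask_testBit fun l hl => ?_⟩
      have hl' : l < 112 := by omega
      have e := hpl ⟨l, hl'⟩ hl
      refine ⟨fun he => ?_, ?_⟩
      · have : p (some (.inl (bsF k))) = p (some (.inl (bsF ⟨l, hl'⟩))) := by
          rw [hy, e, show y = bsF ⟨l, hl'⟩ from Fin.ext (he.trans (bsF_val ⟨l, hl'⟩).symm)]
        have := bsF.injective (Sum.inl.inj (Option.some.inj (p.injective this)))
        rw [this] at hl
        exact lt_irrefl _ hl
      · have h := hp1 (some (.inl (bsF ⟨l, hl'⟩))) (some (.inl (bsF k)))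
        rw [e, hy] at h
        simp only [stdB, bsF_val] at h
        exact h
    refine (Set.ncard_le_ncard hsub).trans ?_
    rw [Set.ncard_coe_finset, Finset.card_image_of_injective _ fun a b e => by simpa using e]
    exact le_rfl
  · show _ = Nat.card ↥(chain k.1 ⊓ _)
    rw [hk]

theorem chain_last : Nat.card ↥(chain 112) = 1 := by
  rw [Nat.card_eq_one_iff_unique]
  refine ⟨⟨fun a b => ?_⟩, ⟨1⟩⟩
  have key : ∀ p ∈ chain 112, p = 1 := by
    intro p hp
    obtain ⟨hp1, hp0, hpl⟩ := chain_mem le_rfl hp
    have hinl : ∀ i, p (some (.inl i)) = some (.inl i) := fun i => by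
      obtain ⟨l, rfl⟩ := bsF.surjective i
      exact hpl l l.2
    refine Equiv.ext fun x => ?_
    rcases x with _ | i | j
    · exact hp0
    · exact hinl i
    · rcases hpj : p (some (.inr j)) with _ | y | m
      · exact absurd (p.injective (hpj.trans hp0.symm)) (by simp)
      · exact absurd (p.injective (hpj.trans (hinl y).symm)) (by simp)
      · have e : j = m := hm_eq_of fun i hi => by
          have h := hp1 (some (.inl ⟨i, hi⟩)) (some (.inr j))
          rw [hinl, hpj] at h
          exact h.symm
        rw [e]; rfl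
  exact Subtype.ext ((key _ a.2).trans (key _ b.2).symm)

theorem card_autStd : Nat.card ↥autStd ≤ 275 * 26127360 := by
  have h0 : (MulAction.orbit ↥autStd (none : SV)).ncard ≤ 275 := by
    refine (Set.ncard_le_ncard (Set.subset_univ _)).trans (le_of_eq ?_)
    rw [Set.ncard_univ, Nat.card_eq_fintype_card]
    simp
  have hstep : ∀ k ≤ 112, Nat.card ↥(chain 0) ≤
      ((List.range k).map fun l => getW 7 baseCnt l).prod * Nat.card ↥(chain k) := by
    intro k
    induction k with
    | zero => intro _; simp
    | succ k ih =>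
      intro hk
      refine (ih (by omega)).trans ?_
      rw [List.range_succ, List.map_append, List.prod_append, List.map_singleton,
        List.prod_singleton, mul_assoc]
      exact Nat.mul_le_mul_left _ (chain_step ⟨k, by omega⟩)
  refine (card_le_orbit_mul autStd (none : SV)).trans (Nat.mul_le_mul h0 ?_)
  have := hstep 112 le_rfl
  rw [base_prod, chain_last, mul_one] at this
  exact this

end Cfsg.Agent.Lib.McLRankThree18
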