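import Cfsg.Agent.Lib.McLRankThree18.Graph
import Cfsg.Agent.Lib.McLRankThree18.Local
import Cfsg.Agent.Lib.McLRankThree18.Hemi
import Cfsg.Agent.Lib.McLRankThree18.Std

/-! A rank 3 group with this point stabiliser acts on the graph built from the tables. -/

set_option autoImplicit false
set_option maxRecDepth 20000

namespace Cfsg.Agent.Lib.McLRankThree18

open Cfsg.Agent.Lib.Computation (getW okPerm decodeP decodeP_apply)

theorem sigma_facts (i : Fin 4) : okPerm 112 7 (sigmaTab.getD i.1 0) = true ∧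
    ∀ x y : Fin 112, adjB (sg i.1 x.1) (sg i.1 y.1) = adjB x.1 y.1 := by
  have h := allN_iff.1 sigma_ok i.1 i.2
  simp only [Bool.and_eq_true] at h
  exact ⟨h.1, fun x y => beq_iff_eq.1 (allN_iff.1 (allN_iff.1 h.2 x.1 x.2) y.1 y.2)⟩

/-- A moving automorphism as a permutation. -/
noncomputable def sgP (i : Fin 4) : Equiv.Perm (Fin 112) := decodeP 112 7 (sigmaTab.getD i.1 0)

theorem sgP_val (i : Fin 4) (x : Fin 112) : (sgP i x : ℕ) = sg i.1 x.1 :=
  decodeP_apply (sigma_facts i).1 x

theorem conj_facts (i : Fin 4) (g : Fin 2) (x : Fin 112) :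
    cj i.1 g.1 x.1 < 112 ∧ sg i.1 (cj i.1 g.1 x.1) = gen g.1 (sg i.1 x.1) := by
  have h := allN_iff.1 (allN_iff.1 (allN_iff.1 conj_ok i.1 i.2) g.1 g.2) x.1 x.2
  simpa only [Bool.and_eq_true, decide_eq_true_eq, beq_iff_eq] using h

/-- A conjugated generator as a permutation. -/
noncomputable def cjP (i : Fin 4) (g : Fin 2) : Equiv.Perm (Fin 112) :=
  (sgP i).trans ((gP g).trans (sgP i).symm)

theorem cjP_val (i : Fin 4) (g : Fin 2) (x : Fin 112) : (cjP i g x : ℕ) = cj i.1 g.1 x.1 := by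
  obtain ⟨h, e⟩ := conj_facts i g x
  have e' : sgP i ⟨_, h⟩ = gP g (sgP i x) := Fin.ext (by rw [sgP_val, gP_val, sgP_val]; exact e)
  show ((sgP i).symm (gP g (sgP i x)) : ℕ) = _
  rw [← e', Equiv.symm_apply_apply]

theorem hAct_facts (i : Fin 4) (g : Fin 2) {j : ℕ} (hj : j < 162) : hAct i.1 g.1 j < 162 ∧
    ∀ x : Fin 112, (hm (hAct i.1 g.1 j)).testBit (cjP i g x).1 = (hm j).testBit x.1 := by
  have h := allN_iff.1 (allN_iff.1 (allN_iff.1 hAct_ok i.1 i.2) g.1 g.2) j hj
  simp only [Bool.and_eq_true, decide_eq_true_eq, beq_iff_eq] at h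
  refine ⟨h.1, fun x => ?_⟩
  rw [← h.2, Bool.eq_iff_iff, testBit_imgMask]
  constructor
  · rintro ⟨y, hy, hb, e⟩
    have : cjP i g ⟨y, hy⟩ = cjP i g x := Fin.ext ((cjP_val i g ⟨y, hy⟩).trans e)
    rw [← (cjP i g).injective this]
    exact hb
  · exact fun hb => ⟨x.1, x.2, hb, (cjP_val i g x).symm⟩

theorem pop_perm (π : Equiv.Perm (Fin 112)) {m m' : ℕ}
    (h : ∀ x : Fin 112, m'.testBit (π x).1 = m.testBit x.1) : pop m' = pop m := by
  refine (Finset.card_equiv π fun x => ?_).symm
  simp [h x]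

variable {X V : Type*} [Group X] [MulAction X V]

/-- An element fixing `a`, carrying the first set of the orbit to another. -/
theorem exists_move (i : Fin 4) {a : V} {ν1 : Fin 112 → V}
    (hg : ∀ g : Fin 2, ∃ h : X, h • a = a ∧ ∀ x, h • ν1 x = ν1 (cjP i g x)) (j : Fin 162) :
    ∃ (h : X) (π : Equiv.Perm (Fin 112)), h • a = a ∧ (∀ x, h • ν1 x = ν1 (π x)) ∧
      ∀ x : Fin 112, (hm j.1).testBit (π x).1 = (hm 0).testBit x.1 := by
  suffices H : ∀ d, ∀ j : Fin 162, getW 20 (hemiPar.getD i.1 0) j.1 >>> 13 = d →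
      ∃ (h : X) (π : Equiv.Perm (Fin 112)), h • a = a ∧ (∀ x, h • ν1 x = ν1 (π x)) ∧
        ∀ x : Fin 112, (hm j.1).testBit (π x).1 = (hm 0).testBit x.1 from H _ j rfl
  intro d
  induction d using Nat.strong_induction_on with
  | _ d ih =>
    intro j hd
    rcases of_decide_eq_true (allN_iff.1 (allN_iff.1 hemi_path i.1 i.2) j.1 j.2) with
      h | ⟨hp, hg', hm', hlt⟩
    · exact ⟨1, 1, one_smul _ _, fun x => one_smul _ _, fun x => by rw [h]; rfl⟩
    · obtain ⟨h, π, h1, h2, h3⟩ := ih _ (hd ▸ hlt) ⟨_, hp⟩ rfl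
      obtain ⟨k, k1, k2⟩ := hg ⟨_, hg'⟩
      refine ⟨k * h, cjP i ⟨_, hg'⟩ * π, by rw [mul_smul, h1, k1], fun x => ?_, fun x => ?_⟩
      · rw [mul_smul, h2, k2]; rfl
      · rw [← h3 x, ← (hAct_facts i ⟨_, hg'⟩ hp).2 (π x), hm']
        rfl

variable [Fintype V] [DecidableEq V]

theorem exists_embedding [FaithfulSMul X V] [MulAction.IsPretransitive X V]
    (hV : Fintype.card V = 275) [Finite X] (a b c : V)
    (ψ : ↥U ≃* ↥(MulAction.stabilizer X a))
    (hb : (MulAction.orbit (MulAction.stabilizer X a) b).ncard = 112)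
    (hc : (MulAction.orbit (MulAction.stabilizer X a) c).ncard = 162) :
    ∃ f : X →* Equiv.Perm SV, Function.Injective f ∧ f.range ≤ autStd := by
  classical
  obtain ⟨Γ, _, hG, hinv, hnbr⟩ := exists_srg hV a b c hb hc
  -- the action on the neighbours of `a`
  have hstep : ∀ (u : ↥U) (y : V), Γ.Adj a y → Γ.Adj a ((ψ u : X) • y) := fun u y hy => by
    have h := (hinv (ψ u : X) a y).2 hy
    rwa [show (ψ u : X) • a = a from (ψ u).2] at h
  letI : MulAction ↥U {y : V // Γ.Adj a y} :=
    { smul := fun u y => ⟨(ψ u : X) • y.1, hstep u y.1 y.2⟩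
      one_smul := fun y => Subtype.ext (by
        show (ψ 1 : X) • y.1 = y.1
        rw [map_one, Subgroup.coe_one, one_smul])
      mul_smul := fun u v y => Subtype.ext (by
        show (ψ (u * v) : X) • y.1 = (ψ u : X) • (ψ v : X) • y.1
        rw [map_mul, Subgroup.coe_mul, mul_smul]) }
  haveI : MulAction.IsPretransitive ↥U {y : V // Γ.Adj a y} := ⟨fun y z => by
    obtain ⟨k, hk⟩ := (hnbr y.1).1 y.2
    obtain ⟨l, hl⟩ := (hnbr z.1).1 z.2
    refine ⟨ψ.symm (l * k⁻¹), Subtype.ext ?_⟩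
    show (ψ (ψ.symm (l * k⁻¹)) : X) • y.1 = z.1
    rw [MulEquiv.apply_symm_apply, ← hk, ← hl, Subgroup.coe_mul, mul_smul, Subgroup.coe_inv]
    show (l : X) • (k : X)⁻¹ • (k : X) • b = (l : X) • b
    rw [inv_smul_smul]⟩
  have hO : Nat.card {y : V // Γ.Adj a y} = 112 := by
    rw [Nat.card_eq_fintype_card, Fintype.card_subtype, ← hG.regular a,
      ← SimpleGraph.card_neighborFinset_eq_degree, ← SimpleGraph.neighborFinset_eq_filter]
  obtain ⟨ν0, hν0⟩ := exists_equivariant hO
  have hν0' : ∀ (u : ↥U) i, (ψ u : X) • (ν0 i).1 = (ν0 (u • i)).1 := fun u i =>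
    (congrArg Subtype.val (hν0 u i)).symm
  -- adjacency among the neighbours
  have hR : ∀ i j : Fin 112, Γ.Adj (ν0 i).1 (ν0 j).1 ↔ adjB i.1 j.1 = true := by
    have hinvU : ∀ (u : ↥U) (i j : Fin 112),
        Γ.Adj (ν0 (u • i)).1 (ν0 (u • j)).1 ↔ Γ.Adj (ν0 i).1 (ν0 j).1 := fun u i j => by
      rw [← hν0', ← hν0', hinv]
    set R := Finset.univ.filter fun j : Fin 112 => Γ.Adj (ν0 0).1 (ν0 j).1 with hRdef
    have hRc : R.card = 30 := by
      rw [← hG.of_adj a (ν0 0).1 (ν0 0).2, ← Set.toFinset_card]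
      refine Finset.card_bij (fun j _ => (ν0 j).1) (fun j hj => ?_)
        (fun j _ k _ e => ν0.injective (Subtype.ext e)) fun y hy => ?_
      · rw [Set.mem_toFinset]
        exact ⟨(ν0 j).2, (Finset.mem_filter.1 hj).2⟩
      · rw [Set.mem_toFinset] at hy
        obtain ⟨j, hj⟩ := ν0.surjective ⟨y, hy.1⟩
        refine ⟨j, Finset.mem_filter.2 ⟨Finset.mem_univ _, ?_⟩, congrArg Subtype.val hj⟩
        rw [congrArg Subtype.val hj]
        exact hy.2
    have hsub : R ⊆ Finset.univ.filter fun j : Fin 112 => adjB 0 j.1 = true := by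
      intro j hj
      rw [Finset.mem_filter] at hj ⊢
      refine ⟨Finset.mem_univ _, ?_⟩
      by_contra hn
      have hj0 : j ≠ 0 := fun e => by
        rw [e] at hj
        exact Γ.irrefl hj.2
      have hl := orbit_U0 j hj0
      rw [if_neg hn] at hl
      have hs : MulAction.orbit ↥U0 j ⊆ ↑R := by
        rintro _ ⟨k, rfl⟩
        rw [hRdef, Finset.coe_filter]
        refine ⟨Finset.mem_univ _, ?_⟩
        have h := (hinvU k.1 0 j).2 hj.2
        rwa [show k.1 • (0 : Fin 112) = 0 from k.2] at h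
      have := Set.ncard_le_ncard hs
      rw [hl, Set.ncard_coe_finset, hRc] at this
      omega
    have heq : R = Finset.univ.filter fun j : Fin 112 => adjB 0 j.1 = true :=
      Finset.eq_of_subset_of_card_le hsub (by rw [hRc]; exact line_count.1.le)
    have h0 : ∀ j, Γ.Adj (ν0 0).1 (ν0 j).1 ↔ adjB 0 j.1 = true := fun j => by
      simpa [hRdef] using (Finset.ext_iff.1 heq j)
    intro i j
    obtain ⟨u, rfl⟩ := transitive i
    obtain ⟨j, rfl⟩ : ∃ j', u • j' = j := ⟨u⁻¹ • j, smul_inv_smul u j⟩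
    rw [hinvU, h0, adjB_smul]
    rfl
  -- the sets of the other points
  have hhalf : ∀ d : V, d ≠ a → ¬ Γ.Adj a d →
      Half fun i => if h : i < 112 then decide (Γ.Adj d (ν0 ⟨i, h⟩).1) else false := by
    intro d hda hdn q hq
    obtain ⟨l0, l1, l2, l3⟩ := cl_lt hq
    have hok := allN_iff.1 cl_ok q hq
    simp only [Bool.and_eq_true, decide_eq_true_eq] at hok
    obtain ⟨⟨⟨⟨⟨⟨-, e01⟩, e02⟩, e03⟩, e12⟩, e13⟩, e23⟩ := hok
    set v0 := (ν0 ⟨_, l0⟩).1 with hv0
    set v1 := (ν0 ⟨_, l1⟩).1 with hv1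
    set v2 := (ν0 ⟨_, l2⟩).1 with hv2
    set v3 := (ν0 ⟨_, l3⟩).1 with hv3
    have a0 : Γ.Adj a v0 := (ν0 _).2
    have a1 : Γ.Adj a v1 := (ν0 _).2
    have a2 : Γ.Adj a v2 := (ν0 _).2
    have a3 : Γ.Adj a v3 := (ν0 _).2
    have b01 : Γ.Adj v0 v1 := (hR _ _).2 e01
    have b02 : Γ.Adj v0 v2 := (hR _ _).2 e02
    have b03 : Γ.Adj v0 v3 := (hR _ _).2 e03
    have b12 : Γ.Adj v1 v2 := (hR _ _).2 e12
    have b13 : Γ.Adj v1 v3 := (hR _ _).2 e13
    have b23 : Γ.Adj v2 v3 := (hR _ _).2 e23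
    have hC : ({a, v0, v1, v2, v3} : Finset V).card = 5 := by
      simp [a0.ne, a1.ne, a2.ne, a3.ne, b01.ne, b02.ne, b03.ne, b12.ne, b13.ne, b23.ne]
    have hcl : ∀ x ∈ ({a, v0, v1, v2, v3} : Finset V), ∀ y ∈ ({a, v0, v1, v2, v3} : Finset V),
        x ≠ y → Γ.Adj x y := by
      intro x hx y hy hne
      simp only [Finset.mem_insert, Finset.mem_singleton] at hx hy
      rcases hx with rfl | rfl | rfl | rfl | rfl <;> rcases hy with rfl | rfl | rfl | rfl | rfl <;>
        first
          | exact absurd rfl hne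
          | assumption
          | (apply SimpleGraph.Adj.symm; assumption)
    have hd : d ∉ ({a, v0, v1, v2, v3} : Finset V) := by
      simp only [Finset.mem_insert, Finset.mem_singleton]
      rintro (rfl | rfl | rfl | rfl | rfl)
      exacts [hda rfl, hdn a0, hdn a1, hdn a2, hdn a3]
    have h2 := clique_five hG _ hC hcl hd
    rw [Finset.card_filter, Finset.sum_insert (by simp [a0.ne, a1.ne, a2.ne, a3.ne]),
      Finset.sum_insert (by simp [b01.ne, b02.ne, b03.ne]),
      Finset.sum_insert (by simp [b12.ne, b13.ne]), Finset.sum_insert (by simp [b23.ne]),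
      Finset.sum_singleton, if_neg (fun h => hdn h.symm)] at h2
    have hb : ∀ v : V, (decide (Γ.Adj d v)).toNat = if Γ.Adj d v then 1 else 0 := fun v => by
      split_ifs with h <;> simp [h]
    simp only [dif_pos l0, dif_pos l1, dif_pos l2, dif_pos l3, hb]
    simp only [hv0, hv1, hv2, hv3] at h2
    omega
  obtain ⟨d0, hd0a, hd0n⟩ : ∃ d, d ≠ a ∧ ¬ Γ.Adj a d := by
    refine ⟨c, fun e => ?_, fun h => ?_⟩
    · have h1 : MulAction.orbit (MulAction.stabilizer X a) a ⊆ {a} := by
        rintro _ ⟨k, rfl⟩; exact k.2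
      have := Set.ncard_le_ncard h1
      rw [e] at hc
      rw [hc, Set.ncard_singleton] at this
      omega
    · rw [← MulAction.orbit_eq_iff.2 ((hnbr c).1 h), hc] at hb
      omega
  obtain ⟨s, hs, hsbit⟩ := half_mem (hhalf d0 hd0a hd0n)
  set i : Fin 4 := ⟨s / 162, by omega⟩ with hi
  set j0 : Fin 162 := ⟨s % 162, Nat.mod_lt _ (by norm_num)⟩ with hj0
  set ν1 : Fin 112 → V := fun x => (ν0 (sgP i x)).1 with hν1
  have hν1inj : Function.Injective ν1 := fun x y e =>
    (sgP i).injective (ν0.injective (Subtype.ext e))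
  have hν1a : ∀ x, Γ.Adj a (ν1 x) := fun x => (ν0 _).2
  have hν1adj : ∀ x y, Γ.Adj (ν1 x) (ν1 y) ↔ adjB x.1 y.1 = true := fun x y => by
    rw [hν1, hR, sgP_val, sgP_val, (sigma_facts i).2]
  have hgens : ∀ g : Fin 2, ∃ h : X, h • a = a ∧ ∀ x, h • ν1 x = ν1 (cjP i g x) := fun g =>
    ⟨(ψ ⟨gP g, gP_mem g⟩ : X), (ψ _).2, fun x => by
      show _ • (ν0 (sgP i x)).1 = (ν0 (sgP i ((sgP i).symm (gP g (sgP i x))))).1
      rw [hν0', Equiv.apply_symm_apply]
      rfl⟩
  let Hit : V → Fin 162 → Prop := fun d j =>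
    ∀ x : Fin 112, Γ.Adj d (ν1 x) ↔ (hm j.1).testBit x.1 = true
  have hhit0 : Hit d0 j0 := by
    intro x
    have h := hsbit _ (sgP i x).2
    simp only [dif_pos (sgP i x).2] at h
    rw [← decide_eq_true_iff (p := Γ.Adj d0 (ν1 x)), hν1, h, mk, testBit_imgMask]
    constructor
    · rintro ⟨y, hy, hb', e⟩
      have : sgP i ⟨y, hy⟩ = sgP i x := Fin.ext ((sgP_val i ⟨y, hy⟩).trans e)
      rw [← (sgP i).injective this]
      exact hb'
    · exact fun hb' => ⟨x.1, x.2, hb', (sgP_val i x).symm⟩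
  obtain ⟨h0, π0, h0a, h0ν, h0bit⟩ := exists_move i hgens j0
  set d1 := h0⁻¹ • d0 with hd1
  have hback : ∀ y, Γ.Adj d1 y ↔ Γ.Adj d0 (h0 • y) := fun y => by
    rw [← hinv h0 d1 y, hd1, smul_inv_smul]
  have hd1a : d1 ≠ a := fun e => hd0a (by rw [← smul_inv_smul h0 d0, ← hd1, e, h0a])
  have hd1n : ¬ Γ.Adj a d1 := fun h => hd0n (by
    have := (hinv h0 a d1).2 h
    rwa [h0a, hd1, smul_inv_smul] at this)
  have hd1hit : ∀ x : Fin 112, Γ.Adj d1 (ν1 x) ↔ (hm 0).testBit x.1 = true := fun x => by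
    rw [hback, h0ν, hhit0, h0bit]
  choose mv π hmva hmvν hmvbit using exists_move i hgens
  set F : Fin 162 → V := fun j => mv j • d1 with hF
  have hFa : ∀ j, F j ≠ a := fun j e => hd1a (by
    rw [← inv_smul_smul (mv j) d1]
    show (mv j)⁻¹ • F j = a
    rw [e, inv_smul_eq_iff, hmva])
  have hFn : ∀ j, ¬ Γ.Adj a (F j) := fun j h => hd1n (by
    rw [← hinv (mv j), hmva]; exact h)
  have hFhit : ∀ j, Hit (F j) j := by
    intro j x
    obtain ⟨x, rfl⟩ := (π j).surjective x
    rw [hF, ← hmvν, hinv, hd1hit, hmvbit]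
  have hFinj : Function.Injective F := fun j k e => hm_eq_of fun x hx => by
    rw [Bool.eq_iff_iff]
    exact (hFhit j ⟨x, hx⟩).symm.trans ((by rw [e] : Γ.Adj (F j) _ ↔ Γ.Adj (F k) _).trans
      (hFhit k ⟨x, hx⟩))
  let ν : SV → V := fun x => x.elim a (Sum.elim ν1 F)
  have hνinj : Function.Injective ν := by
    rintro (_ | x | j) (_ | y | k) e
    · rfl
    · exact absurd e (hν1a y).ne
    · exact absurd e (hFa k).symm
    · exact absurd e (hν1a x).ne'
    · exact congrArg (fun z => some (Sum.inl z)) (hν1inj e)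
    · exact absurd ((show ν1 x = F k from e) ▸ hν1a x) (hFn k)
    · exact absurd e (hFa j)
    · exact absurd ((show F j = ν1 y from e).symm ▸ hν1a y) (hFn j)
    · exact congrArg (fun z => some (Sum.inr z)) (hFinj e)
  have hνbij : Function.Bijective ν := (Fintype.bijective_iff_injective_and_card ν).2
    ⟨hνinj, by rw [hV]; simp⟩
  have hsum : ∀ p : V → Prop, [DecidablePred p] → (Finset.univ.filter p).card =
      (if p a then 1 else 0) + (Finset.univ.filter fun x => p (ν1 x)).card +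
        (Finset.univ.filter fun j => p (F j)).card := by
    intro p _
    rw [← Finset.card_equiv (Equiv.ofBijective ν hνbij)
      (s := Finset.univ.filter fun x => p (ν x)) (by simp)]
    simp only [Finset.card_filter, Fintype.sum_option, Fintype.sum_sum_type]
    simp only [ν, Option.elim, Sum.elim_inl, Sum.elim_inr, add_assoc]
    congr
  -- adjacency between the other points
  have hkey : ∀ k : Fin 162, k.1 ≠ 0 →
      (Γ.Adj d1 (F k) ↔ pop (hm 0 &&& hm k.1) = 20) := by
    set N := Finset.univ.filter fun k : Fin 162 => Γ.Adj d1 (F k) with hN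
    have hT : (Finset.univ.filter fun x : Fin 112 => Γ.Adj d1 (ν1 x)).card = 56 := by
      rw [← hm_size.1, pop]
      congr 1
      ext x
      simp [hd1hit x]
    have hN56 : N.card = 56 := by
      have h := hG.regular d1
      rw [← SimpleGraph.card_neighborFinset_eq_degree, SimpleGraph.neighborFinset_eq_filter,
        hsum, if_neg (fun h' => hd1n h'.symm), hT, ← hN] at h
      omega
    have hTk : ∀ x : Fin 112, (hm 0).testBit x.1 = true →
        (N.filter fun k => (hm k.1).testBit x.1 = true).card = 20 := by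
      intro x hx
      have h := hG.of_adj d1 (ν1 x) ((hd1hit x).2 hx)
      rw [← Set.toFinset_card, show (Γ.commonNeighbors d1 (ν1 x)).toFinset =
          Finset.univ.filter fun y => Γ.Adj d1 y ∧ Γ.Adj (ν1 x) y by
          ext y; rw [Set.mem_toFinset]; simp [SimpleGraph.commonNeighbors],
        hsum, if_neg (fun h' => hd1n h'.1.symm)] at h
      have e1 : (Finset.univ.filter fun y : Fin 112 =>
          Γ.Adj d1 (ν1 y) ∧ Γ.Adj (ν1 x) (ν1 y)).card = 10 := by
        have hp := allN_iff.1 hm_size.2 x.1 x.2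
        rw [hx] at hp
        rw [← beq_iff_eq.1 (by simpa using hp : (pop (hm 0 &&& getW 112 adjTab x.1) == 10) = true),
          pop]
        congr 1
        ext y
        simp only [Finset.mem_filter, Finset.mem_univ, true_and, Nat.testBit_and, Bool.and_eq_true,
          hd1hit, hν1adj]
        rfl
      have e2 : (N.filter fun k => (hm k.1).testBit x.1 = true) = Finset.univ.filter fun k =>
          Γ.Adj d1 (F k) ∧ Γ.Adj (ν1 x) (F k) := by
        ext k
        simp [hN, Γ.adj_comm (ν1 x), hFhit k x]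
      rw [e1] at h
      rw [e2]
      omega
    have hne : ∀ k ∈ N, k.1 ≠ 0 := by
      intro k hk h0'
      have e : F k = d1 := by
        have hmv0 : ∀ x : Fin 112, Γ.Adj (F k) (ν1 x) ↔ Γ.Adj d1 (ν1 x) := fun x => by
          rw [hFhit k x, hd1hit x, h0']
        obtain ⟨z, hz⟩ := hνbij.2 d1
        rcases z with _ | y | m
        · exact absurd hz hd1a.symm
        · exact absurd (hz ▸ hν1a y) hd1n
        · have : m = k := hm_eq_of fun x hx => by
            rw [Bool.eq_iff_iff]
            exact (hFhit m ⟨x, hx⟩).symm.trans ((by rw [show F m = d1 from hz] :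
              Γ.Adj (F m) _ ↔ Γ.Adj d1 _).trans ((hmv0 ⟨x, hx⟩).symm.trans (hFhit k ⟨x, hx⟩)))
          rw [← this]; exact hz
      have := (Finset.mem_filter.1 hk).2
      rw [e] at this
      exact Γ.irrefl this
    have hge : ∀ k ∈ N, 20 ≤ pop (hm 0 &&& hm k.1) := by
      intro k hk
      have h := allN_iff.1 hm_meet k.1 k.2
      simp only [Bool.or_eq_true, decide_eq_true_eq, beq_iff_eq] at h
      have := hne k hk
      omega
    have htot : ∑ k ∈ N, pop (hm 0 &&& hm k.1) = ∑ k ∈ N, 20 := by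
      have e : ∀ k : Fin 162, pop (hm 0 &&& hm k.1) = ∑ x : Fin 112,
          if (hm 0).testBit x.1 = true then (if (hm k.1).testBit x.1 = true then 1 else 0) else 0 := by
        intro k
        rw [pop, Finset.card_filter]
        refine Finset.sum_congr rfl fun x _ => ?_
        simp only [Nat.testBit_and, Bool.and_eq_true]
        split_ifs <;> simp_all
      simp only [e]
      rw [Finset.sum_comm, Finset.sum_const, hN56]
      have e' : ∀ x : Fin 112, (∑ k ∈ N, if (hm 0).testBit x.1 = true then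
          (if (hm k.1).testBit x.1 = true then 1 else 0) else 0) =
          if (hm 0).testBit x.1 = true then 20 else 0 := by
        intro x
        split_ifs with hx
        · rw [← Finset.card_filter, hTk x hx]
        · simp
      rw [Finset.sum_congr rfl fun x _ => e' x, ← Finset.sum_filter, Finset.sum_const]
      rw [show (Finset.univ.filter fun x : Fin 112 => (hm 0).testBit x.1 = true).card = 56 from
        hm_size.1]
    have hall := (Finset.sum_eq_sum_iff_of_le hge).1 htot.symm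
    have heq : N = Finset.univ.filter fun k : Fin 162 => k.1 ≠ 0 ∧ pop (hm 0 &&& hm k.1) = 20 :=
      Finset.eq_of_subset_of_card_le (fun k hk => Finset.mem_filter.2
        ⟨Finset.mem_univ _, hne k hk, (hall k hk).symm⟩) (by rw [hN56]; exact hm_twenty.le)
    intro k hk
    have := Finset.ext_iff.1 heq k
    simp only [hN, Finset.mem_filter, Finset.mem_univ, true_and] at this
    exact this.trans (and_iff_right hk)
  have hFF : ∀ j k : Fin 162, j ≠ k →
      (Γ.Adj (F j) (F k) ↔ pop (hm j.1 &&& hm k.1) = 20) := by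
    intro j k hne
    obtain ⟨z, hz⟩ := hνbij.2 ((mv j)⁻¹ • F k)
    rcases z with _ | y | k'
    · exact absurd (by
        have h : mv j • a = F k := by rw [show a = _ from hz, smul_inv_smul]
        rw [hmva] at h; exact h.symm) (hFa k)
    · exfalso
      apply hFn k
      have h : mv j • ν1 y = F k := by rw [show ν1 y = _ from hz, smul_inv_smul]
      rw [← h, hmvν]
      exact hν1a _
    · have hFk : mv j • F k' = F k := by rw [show F k' = _ from hz, smul_inv_smul]
      have hbit : ∀ x : Fin 112, (hm k.1).testBit (π j x).1 = (hm k'.1).testBit x.1 := fun x => by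
        rw [Bool.eq_iff_iff, ← hFhit k, ← hFk, ← hmvν, hinv, hFhit k']
      have hk' : k'.1 ≠ 0 := by
        intro e
        apply hne
        refine hm_eq_of fun x hx => ?_
        obtain ⟨y, hy⟩ := (π j).surjective ⟨x, hx⟩
        have h1 := hmvbit j y
        have h2 := hbit y
        rw [hy] at h1 h2
        rw [e] at h2
        exact h1.trans h2.symm
      have hp : pop (hm j.1 &&& hm k.1) = pop (hm 0 &&& hm k'.1) := by
        refine pop_perm (π j) fun x => ?_
        rw [Nat.testBit_and, Nat.testBit_and, hmvbit, hbit]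
      rw [hp, ← hkey k' hk', ← hFk, hF, hinv]
  have hiso : ∀ x y, Γ.Adj (ν x) (ν y) ↔ stdB x y = true := by
    rintro (_ | x | j) (_ | y | k)
    · exact iff_of_false Γ.irrefl (by simp [stdB])
    · exact iff_of_true (hν1a y) rfl
    · exact iff_of_false (hFn k) (by simp [stdB])
    · exact iff_of_true (hν1a x).symm rfl
    · exact hν1adj x y
    · exact Γ.adj_comm _ _ |>.trans (hFhit k x)
    · exact iff_of_false (fun h => hFn j h.symm) (by simp [stdB])
    · exact hFhit j y
    · by_cases hjk : j = k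
      · subst hjk
        exact iff_of_false Γ.irrefl (by simp [stdB])
      · simp only [stdB, Bool.and_eq_true, decide_eq_true_eq, beq_iff_eq, ν, Option.elim,
          Sum.elim_inr]
        simp [hjk, hFF j k hjk]
  let e : SV ≃ V := Equiv.ofBijective ν hνbij
  refine ⟨e.symm.permCongrHom.toMonoidHom.comp (MulAction.toPermHom X V), ?_, ?_⟩
  · refine e.symm.permCongrHom.injective.comp ?_
    exact fun g h he => eq_of_smul_eq_smul fun x => Equiv.ext_iff.1 he x
  · rintro _ ⟨g, rfl⟩ x y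
    rw [Bool.eq_iff_iff, ← hiso, ← hiso]
    show Γ.Adj (e (e.symm (g • e x))) (e (e.symm (g • e y))) ↔ _
    rw [Equiv.apply_symm_apply, Equiv.apply_symm_apply, hinv]
    rfl

end Cfsg.Agent.Lib.McLRankThree18
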