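import Mathlib

/-!
The orbital graph of a transitive action on 275 points with suborbits of sizes 1, 112, 162.
-/

set_option autoImplicit false

namespace Cfsg.Agent.Lib.McLRankThree18

open Finset Matrix

/-- The trace of an idempotent rational matrix is a natural number. -/
theorem trace_idem_nat {ι : Type*} [Fintype ι] [DecidableEq ι] (P : Matrix ι ι ℚ) (h : P * P = P) :
    ∃ n : ℕ, P.trace = n := by
  have he : IsIdempotentElem (Matrix.toLin' P) := by
    show Matrix.toLin' P * Matrix.toLin' P = Matrix.toLin' P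
    rw [Module.End.mul_eq_comp, ← Matrix.toLin'_mul, h]
  refine ⟨Module.finrank ℚ (LinearMap.range (Matrix.toLin' P)), ?_⟩
  rw [← (LinearMap.IsIdempotentElem.isProj_range _ he).trace, LinearMap.trace_eq_matrix_trace ℚ (Pi.basisFun ℚ ι),
    ← Matrix.toLin_eq_toLin', LinearMap.toMatrix_toLin]

variable {Ω : Type*} [Fintype Ω] [DecidableEq Ω]

/-- The parameters of a strongly regular graph on 275 points of valency 112. -/
theorem srg_params {G : SimpleGraph Ω} [DecidableRel G.Adj] {l m : ℕ}
    (h : G.IsSRGWith 275 112 l m) (hl : l ≤ 111) (hlm : 112 * (111 - l) = 162 * m) :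
    l = 30 ∧ m = 56 := by
  have hc : (l = 30 ∧ m = 56) ∨ (l = 111 ∧ m = 0) := by
    have : m < 77 := by omega
    interval_cases m <;> omega
  rcases hc with hc | ⟨rfl, rfl⟩
  · exact hc
  · exfalso
    have hA := h.matrix_eq (α := ℚ)
    set A := G.adjMatrix ℚ with hAdef
    have htrA : A.trace = 0 := SimpleGraph.trace_adjMatrix _ _
    have htr1 : (1 : Matrix Ω Ω ℚ).trace = 275 := by simp [Matrix.trace_one, h.card]
    have e : A * A = (112 : ℕ) • (1 : Matrix Ω Ω ℚ) + (111 : ℕ) • A := by
      rw [← sq, hA]; simp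
    set P : Matrix Ω Ω ℚ := (1 / 113 : ℚ) • (A + 1)
    have hP : P * P = P := by
      simp only [P, smul_mul_assoc, mul_smul_comm, add_mul, mul_add, one_mul, mul_one, e]
      module
    obtain ⟨n, hn⟩ := trace_idem_nat P hP
    simp only [P, Matrix.trace_smul, Matrix.trace_add, htrA, htr1, smul_eq_mul] at hn
    have : ((275 : ℕ) : ℚ) = ((113 * n : ℕ) : ℚ) := by push_cast; linarith
    have := (Nat.cast_inj (R := ℚ)).1 this
    omega

open MulAction in
/-- The orbital graph: a strongly regular graph invariant under the group. -/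
theorem exists_srg {X : Type*} [Group X] [Finite X] [MulAction X Ω] [MulAction.IsPretransitive X Ω]
    (hΩ : Fintype.card Ω = 275) (a b c : Ω)
    (hb : (MulAction.orbit (MulAction.stabilizer X a) b).ncard = 112)
    (hc : (MulAction.orbit (MulAction.stabilizer X a) c).ncard = 162) :
    ∃ G : SimpleGraph Ω, ∃ _ : DecidableRel G.Adj, G.IsSRGWith 275 112 30 56 ∧
      (∀ (g : X) (x y : Ω), G.Adj (g • x) (g • y) ↔ G.Adj x y) ∧
      ∀ y, G.Adj a y ↔ y ∈ MulAction.orbit (MulAction.stabilizer X a) b := by
  classical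
  set K := MulAction.stabilizer X a
  have oa : MulAction.orbit K a = {a} := by
    ext y
    constructor
    · rintro ⟨k, rfl⟩; exact k.2
    · rintro rfl; exact MulAction.mem_orbit_self _
  have hsize : ∀ y, (MulAction.orbit K y).ncard = 112 →
      MulAction.orbit K y = MulAction.orbit K b := by
    intro y hy
    have hba : Disjoint (MulAction.orbit K b) (MulAction.orbit K c) := by
      rcases (MulAction.orbit.eq_or_disjoint (G := K) b c) with e | e
      · rw [e, hc] at hb; omega
      · exact e
    by_contra hne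
    have d1 : Disjoint (MulAction.orbit K y) (MulAction.orbit K b) :=
      (MulAction.orbit.eq_or_disjoint (G := K) y b).resolve_left hne
    have d2 : Disjoint (MulAction.orbit K y) (MulAction.orbit K c) := by
      rcases (MulAction.orbit.eq_or_disjoint (G := K) y c) with e | e
      · rw [e, hc] at hy; omega
      · exact e
    have u1 := Set.ncard_union_eq d1 (Set.toFinite _) (Set.toFinite _)
    have u2 := Set.ncard_union_eq (Set.disjoint_union_left.2 ⟨d2, hba⟩) (Set.toFinite _)
      (Set.toFinite _)
    have u3 := Set.ncard_le_ncard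
      (Set.subset_univ ((MulAction.orbit K y ∪ MulAction.orbit K b) ∪ MulAction.orbit K c))
    rw [Set.ncard_univ, Nat.card_eq_fintype_card, hΩ] at u3
    omega
  have hab : a ≠ b := by
    rintro rfl
    rw [oa, Set.ncard_singleton] at hb
    omega
  have hac : a ≠ c := by
    rintro rfl
    rw [oa, Set.ncard_singleton] at hc
    omega
  have hother : ∀ y, y ≠ a → y ∉ MulAction.orbit K b → y ∈ MulAction.orbit K c := by
    intro y hya hyb
    by_contra hyc
    have hba : Disjoint (MulAction.orbit K b) (MulAction.orbit K c) := by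
      rcases (MulAction.orbit.eq_or_disjoint (G := K) b c) with e | e
      · rw [e, hc] at hb; omega
      · exact e
    have ha1 : a ∉ MulAction.orbit K b := fun h => by
      rw [← MulAction.orbit_eq_iff.2 h, oa, Set.ncard_singleton] at hb; omega
    have ha2 : a ∉ MulAction.orbit K c := fun h => by
      rw [← MulAction.orbit_eq_iff.2 h, oa, Set.ncard_singleton] at hc; omega
    have u1 := Set.ncard_union_eq hba (Set.toFinite _) (Set.toFinite _)
    have u2 : ({a, y} : Set Ω).ncard = 2 := Set.ncard_pair (Ne.symm hya)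
    have d : Disjoint ({a, y} : Set Ω) (MulAction.orbit K b ∪ MulAction.orbit K c) := by
      rw [Set.disjoint_left]
      rintro z (rfl | rfl) <;> simp [ha1, ha2, hyb, hyc]
    have u4 := Set.ncard_union_eq d (Set.toFinite _) (Set.toFinite _)
    have u3 := Set.ncard_le_ncard
      (Set.subset_univ (({a, y} : Set Ω) ∪ (MulAction.orbit K b ∪ MulAction.orbit K c)))
    rw [Set.ncard_univ, Nat.card_eq_fintype_card, hΩ] at u3
    omega
  -- an element exchanging `a` and `b`
  obtain ⟨s, hs1, hs2⟩ : ∃ s : X, s • a = b ∧ s • b = a := by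
    obtain ⟨g, hg⟩ := MulAction.exists_smul_eq X b a
    have key : ∀ y : Ω, (MulAction.orbit K y).ncard *
        Nat.card {k : X // k • a = a ∧ k • y = y} = Nat.card K := by
      intro y
      rw [← Nat.card_coe_set_eq, ← (MulAction.stabilizer K y).index_mul_card,
        MulAction.index_stabilizer]
      congr 1
      · exact Nat.card_congr
          { toFun := fun k => ⟨⟨k.1, k.2.1⟩, k.2.2⟩
            invFun := fun k => ⟨k.1.1, k.1.2, k.2⟩
            left_inv := fun _ => rfl
            right_inv := fun _ => rfl }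
    have ec : Nat.card {k : X // k • a = a ∧ k • (g • a) = g • a} =
        Nat.card {k : X // k • a = a ∧ k • b = b} := by
      refine Nat.card_congr
        { toFun := fun k => ⟨g⁻¹ * k.1 * g, ?_, ?_⟩
          invFun := fun k => ⟨g * k.1 * g⁻¹, ?_, ?_⟩
          left_inv := fun k => Subtype.ext (by group)
          right_inv := fun k => Subtype.ext (by group) }
      · rw [mul_smul, mul_smul, k.2.2, inv_smul_smul]
      · rw [mul_smul, mul_smul, hg, k.2.1, inv_smul_eq_iff, hg]
      · rw [mul_smul, mul_smul, show g⁻¹ • a = b from inv_smul_eq_iff.2 hg.symm, k.2.2, hg]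
      · rw [mul_smul, mul_smul, inv_smul_smul, k.2.1]
    have h1 := key (g • a)
    rw [ec, ← key b] at h1
    have hpos : 0 < Nat.card {k : X // k • a = a ∧ k • b = b} := by
      haveI : Nonempty {k : X // k • a = a ∧ k • b = b} := ⟨⟨1, by simp, by simp⟩⟩
      exact Nat.card_pos
    have h22 := (Nat.eq_of_mul_eq_mul_right hpos h1).trans hb
    have hm : g • a ∈ MulAction.orbit K b := hsize _ h22 ▸ MulAction.mem_orbit_self _
    obtain ⟨k, hk⟩ := hm
    refine ⟨(k : X)⁻¹ * g, ?_, ?_⟩
    · rw [mul_smul, inv_smul_eq_iff]; exact hk.symm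
    · rw [mul_smul, hg, inv_smul_eq_iff]; exact k.2.symm
  let G : SimpleGraph Ω :=
    { Adj := fun x y => ∃ g : X, g • a = x ∧ g • b = y
      symm := ⟨fun x y ⟨g, h1, h2⟩ => ⟨g * s, by rw [mul_smul, hs1, h2], by rw [mul_smul, hs2, h1]⟩⟩
      loopless := ⟨fun x ⟨g, h1, h2⟩ => hab (smul_left_cancel g (h1.trans h2.symm))⟩ }
  have hinv : ∀ (g : X) (x y : Ω), G.Adj (g • x) (g • y) ↔ G.Adj x y := by
    intro g x y
    constructor
    · rintro ⟨h, h1, h2⟩
      exact ⟨g⁻¹ * h, by rw [mul_smul, h1, inv_smul_smul], by rw [mul_smul, h2, inv_smul_smul]⟩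
    · rintro ⟨h, h1, h2⟩
      exact ⟨g * h, by rw [mul_smul, h1], by rw [mul_smul, h2]⟩
  have hnbr : ∀ y, G.Adj a y ↔ y ∈ MulAction.orbit K b := by
    intro y
    constructor
    · rintro ⟨g, h1, h2⟩; exact ⟨⟨g, h1⟩, h2⟩
    · rintro ⟨k, hk⟩; exact ⟨k, k.2, hk⟩
  have hd : (G.neighborFinset a).card = 112 := by
    rw [← hb, ← Set.ncard_coe_finset]
    congr 1
    ext y
    simp [hnbr y]
  let cm : Ω → Ω → ℕ := fun x y => (G.neighborFinset x ∩ G.neighborFinset y).card
  have hcm : ∀ (g : X) (x y : Ω), cm (g • x) (g • y) = cm x y := by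
    intro g x y
    refine (Finset.card_bij (fun z _ => g • z) ?_ ?_ ?_).symm
    · intro z hz
      simpa [hinv] using hz
    · intro z _ w _ e; exact smul_left_cancel g e
    · intro w hw
      refine ⟨g⁻¹ • w, ?_, smul_inv_smul g w⟩
      rw [Finset.mem_inter, SimpleGraph.mem_neighborFinset, SimpleGraph.mem_neighborFinset] at hw ⊢
      rw [← hinv g x, ← hinv g y, smul_inv_smul]
      exact hw
  have hcn : ∀ x y, Fintype.card (G.commonNeighbors x y) = cm x y := by
    intro x y
    rw [← Set.toFinset_card]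
    congr 1
    ext z
    rw [Set.mem_toFinset]
    simp [SimpleGraph.commonNeighbors]
  have hreg : G.IsRegularOfDegree 112 := by
    intro x
    obtain ⟨g, rfl⟩ := MulAction.exists_smul_eq X a x
    rw [← SimpleGraph.card_neighborFinset_eq_degree, ← hd]
    refine (Finset.card_bij (fun z _ => g • z) ?_ ?_ ?_).symm
    · intro z hz
      simpa [hinv] using hz
    · intro z _ w _ e; exact smul_left_cancel g e
    · intro w hw
      refine ⟨g⁻¹ • w, ?_, smul_inv_smul g w⟩
      rw [SimpleGraph.mem_neighborFinset] at hw ⊢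
      rw [← hinv g a, smul_inv_smul]
      exact hw
  have hsrg : G.IsSRGWith 275 112 (cm a b) (cm a c) := by
    refine ⟨hΩ, hreg, ?_, ?_⟩
    · intro x y hxy
      obtain ⟨g, h1, h2⟩ := hxy
      rw [hcn, ← h1, ← h2, hcm]
    · intro x y hne hnadj
      obtain ⟨g, rfl⟩ := MulAction.exists_smul_eq X a x
      obtain ⟨y, rfl⟩ : ∃ y', g • y' = y := ⟨g⁻¹ • y, smul_inv_smul g y⟩
      rw [hinv] at hnadj
      obtain ⟨k, hk⟩ := hother y (fun e => hne (by rw [e])) (fun h => hnadj ((hnbr y).2 h))
      rw [hcn, hcm, ← hk]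
      show cm a ((k : X) • c) = cm a c
      conv_lhs => arg 1; rw [← show (k : X) • a = a from k.2]
      rw [hcm]
  have hadjab : G.Adj a b := ⟨1, one_smul _ _, one_smul _ _⟩
  have hnadjac : ¬ G.Adj a c := fun h => by
    have := MulAction.orbit_eq_iff.2 ((hnbr c).1 h)
    rw [this, hb] at hc
    omega
  have hl : cm a b ≤ 111 := by
    have h1 : G.neighborFinset a ∩ G.neighborFinset b ⊆ (G.neighborFinset b).erase a := fun z hz => by
      rw [Finset.mem_inter, SimpleGraph.mem_neighborFinset] at hz
      exact Finset.mem_erase.2 ⟨(G.ne_of_adj hz.1).symm, hz.2⟩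
    have h2 := Finset.card_le_card h1
    rw [Finset.card_erase_of_mem (by simpa using hadjab.symm),
      SimpleGraph.card_neighborFinset_eq_degree, hreg b] at h2
    exact h2
  have hpe := SimpleGraph.IsSRGWith.param_eq G hsrg (by norm_num)
  have hlm : 112 * (111 - cm a b) = 162 * cm a c := by omega
  obtain ⟨e1, e2⟩ := srg_params hsrg hl hlm
  rw [e1, e2] at hsrg
  exact ⟨G, inferInstance, hsrg, hinv, hnbr⟩

/-- In such a graph every point outside a clique of size five has two neighbours in it. -/
theorem clique_five {G : SimpleGraph Ω} [DecidableRel G.Adj] (h : G.IsSRGWith 275 112 30 56)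
    (C : Finset Ω) (hC : C.card = 5) (hcl : ∀ c ∈ C, ∀ d ∈ C, c ≠ d → G.Adj c d) {x : Ω}
    (hx : x ∉ C) : (C.filter fun c => G.Adj x c).card = 2 := by
  set n : Ω → ℕ := fun y => (C.filter fun c => G.Adj y c).card
  have hn : ∀ y, n y = ∑ c ∈ C, if G.Adj y c then 1 else 0 := fun y => Finset.card_filter _ _
  have h1 : ∑ y, n y = 560 := by
    simp only [hn]
    rw [Finset.sum_comm]
    have : ∀ c ∈ C, ∑ y, (if G.Adj y c then 1 else 0) = 112 := fun c _ => by
      rw [← Finset.card_filter, ← h.regular c, ← SimpleGraph.card_neighborFinset_eq_degree]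
      congr 1
      ext y
      simp [G.adj_comm]
    rw [Finset.sum_congr rfl this, Finset.sum_const, hC]
    rfl
  have h2 : ∑ y, n y * n y = 1160 := by
    simp only [hn, Finset.sum_mul_sum]
    rw [Finset.sum_comm]
    have hi : ∀ c ∈ C, ∑ y, ∑ d ∈ C, (if G.Adj y c then 1 else 0) * (if G.Adj y d then 1 else 0) =
        232 := by
      intro c hc
      rw [Finset.sum_comm]
      have hd : ∀ d ∈ C, ∑ y, (if G.Adj y c then 1 else 0) * (if G.Adj y d then 1 else 0) =
          30 + if c = d then 82 else 0 := by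
        intro d hd
        have e : ∑ y, (if G.Adj y c then 1 else 0) * (if G.Adj y d then 1 else 0) =
            (Finset.univ.filter fun y => G.Adj y c ∧ G.Adj y d).card := by
          rw [Finset.card_filter]
          exact Finset.sum_congr rfl fun y _ => by split_ifs <;> simp_all
        rw [e]
        split_ifs with hcd
        · subst hcd
          show _ = 112
          rw [← h.regular c, ← SimpleGraph.card_neighborFinset_eq_degree]
          congr 1
          ext y
          simp [G.adj_comm]
        · rw [add_zero, ← h.of_adj c d (hcl c hc d hd hcd), ← Set.toFinset_card]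
          congr 1
          ext y
          rw [Set.mem_toFinset]
          simp [SimpleGraph.commonNeighbors, G.adj_comm]
      rw [Finset.sum_congr rfl hd, Finset.sum_add_distrib, Finset.sum_const, hC,
        Finset.sum_ite_eq, if_pos hc]
      rfl
    rw [Finset.sum_congr rfl hi, Finset.sum_const, hC]
    rfl
  have hin : ∀ y ∈ C, n y = 4 := by
    intro y hy
    show (C.filter fun c => G.Adj y c).card = 4
    rw [show (C.filter fun c => G.Adj y c) = C.erase y from ?_, Finset.card_erase_of_mem hy, hC]
    ext c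
    simp only [Finset.mem_filter, Finset.mem_erase]
    exact ⟨fun h => ⟨(G.ne_of_adj h.2).symm, h.1⟩, fun h => ⟨h.2, hcl y hy c h.2 (Ne.symm h.1)⟩⟩
  have o1 : ∑ y ∈ Cᶜ, n y = 540 := by
    have := Finset.sum_add_sum_compl C n
    rw [h1, Finset.sum_congr rfl hin, Finset.sum_const, hC, smul_eq_mul] at this
    omega
  have o2 : ∑ y ∈ Cᶜ, n y * n y = 1080 := by
    have := Finset.sum_add_sum_compl C fun y => n y * n y
    rw [h2, Finset.sum_congr rfl (fun y hy => by rw [hin y hy] : ∀ y ∈ C, n y * n y = 4 * 4),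
      Finset.sum_const, hC, smul_eq_mul] at this
    omega
  have hle : ∀ y ∈ Cᶜ, 4 * n y ≤ n y * n y + 4 := fun y _ => by
    nlinarith [sq_nonneg ((n y : ℤ) - 2)]
  have heq : ∑ y ∈ Cᶜ, 4 * n y = ∑ y ∈ Cᶜ, (n y * n y + 4) := by
    rw [← Finset.mul_sum, o1, Finset.sum_add_distrib, o2, Finset.sum_const, Finset.card_compl, hC,
      h.card]
    rfl
  have := (Finset.sum_eq_sum_iff_of_le hle).1 heq x (Finset.mem_compl.2 hx)
  show n x = 2
  nlinarith [sq_nonneg ((n x : ℤ) - 2)]

end Cfsg.Agent.Lib.McLRankThree18
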