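import Cfsg.Agent.Lib.McLRankThree18.Local
import Cfsg.Agent.Lib.LatticeUnitary.U4

/-! The group on the lines is the projective special unitary group. -/

set_option autoImplicit false
set_option maxRecDepth 20000

namespace Cfsg.Agent.Lib.McLRankThree18

open Cfsg Cfsg.Agent.Lib.Co3Model Cfsg.Agent.Lib.Leech
open Cfsg.Agent.Lib.LatticeUnitary

theorem U_equiv_G0 : Nonempty (↥U4.G0 ≃* ↥U) := by
  classical
  haveI : Finite Co0 := Nat.finite_of_card_ne_zero (by rw [card_co0]; omega)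
  let a : Fin 2 → ↥U4.G0 := fun g => ⟨U4.atomElt g, U4.atomElt_mem g⟩
  have ha : ∀ g j, (a g : Co0) • U4.y j = U4.y (gP g j) := by
    intro g j
    apply lv_injective
    show lv (U4.atomElt g • U4.y j) = _
    rw [U4.atomElt, lv_word (U4.atom_all g), U4.lv_y, U4.lv_y, gP_val]
    exact (U4.atom_ok g j).2
  let H : Subgroup ↥U4.G0 := Subgroup.closure (Set.range a)
  have hH : ∀ h ∈ H, ∃ u ∈ U, ∀ j, (h : Co0) • U4.y j = U4.y (u j) := by
    intro h hh
    induction hh using Subgroup.closure_induction with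
    | mem p hp =>
      obtain ⟨g, rfl⟩ := hp
      exact ⟨gP g, gP_mem g, ha g⟩
    | one => exact ⟨1, one_mem _, fun j => one_smul _ _⟩
    | mul p q _ _ hp hq =>
      obtain ⟨u, hu, eu⟩ := hp
      obtain ⟨v, hv, ev⟩ := hq
      refine ⟨u * v, mul_mem hu hv, fun j => ?_⟩
      rw [Subgroup.coe_mul, mul_smul, ev, eu]
      rfl
    | inv p _ hp =>
      obtain ⟨u, hu, eu⟩ := hp
      refine ⟨u⁻¹, inv_mem hu, fun j => ?_⟩
      rw [Subgroup.coe_inv, inv_smul_eq_iff, eu]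
      simp
  choose π hπU hπ using hH
  have huniq : ∀ (h : ↥H) (u : Equiv.Perm (Fin 112)),
      (∀ j, (h.1 : Co0) • U4.y j = U4.y (u j)) → π h.1 h.2 = u := fun h u hu =>
    Equiv.ext fun j => U4.y_injective ((hπ h.1 h.2 j).symm.trans (hu j))
  let ρ : ↥H →* ↥U := MonoidHom.mk' (fun h => ⟨π h.1 h.2, hπU h.1 h.2⟩) fun h k => by
    refine Subtype.ext (huniq (h * k) _ fun j => ?_)
    rw [Subgroup.coe_mul, Subgroup.coe_mul, mul_smul, hπ k.1 k.2, hπ h.1 h.2]
    rfl
  have hsurj : Function.Surjective ρ := by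
    rintro ⟨u, hu⟩
    suffices h : ∃ h : ↥H, π h.1 h.2 = u by
      obtain ⟨h, e⟩ := h
      exact ⟨h, Subtype.ext e⟩
    induction hu using Subgroup.closure_induction with
    | mem p hp =>
      obtain ⟨g, rfl⟩ := hp
      exact ⟨⟨a g, Subgroup.subset_closure ⟨g, rfl⟩⟩, huniq _ _ (ha g)⟩
    | one => exact ⟨1, huniq _ _ fun j => one_smul _ _⟩
    | mul p q _ _ hp hq =>
      obtain ⟨h, rfl⟩ := hp
      obtain ⟨k, rfl⟩ := hq
      exact ⟨h * k, congrArg Subtype.val (map_mul ρ h k)⟩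
    | inv p _ hp =>
      obtain ⟨h, rfl⟩ := hp
      exact ⟨h⁻¹, congrArg Subtype.val (map_inv ρ h)⟩
  have h1 : 3265920 ≤ Nat.card ↥H := by
    rw [← card_U]
    exact Nat.card_le_card_of_surjective ρ hsurj
  have htop : H = ⊤ := Subgroup.eq_top_of_le_card _ (by rw [U4.card_G0]; exact h1)
  have hb : Function.Bijective ρ := (Nat.bijective_iff_surjective_and_card ρ).2 ⟨hsurj, by
    rw [card_U, htop, Subgroup.card_top, U4.card_G0]⟩
  exact ⟨((Subgroup.topEquiv (G := ↥U4.G0)).symm.trans (MulEquiv.subgroupCongr htop.symm)).trans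
    (MulEquiv.ofBijective ρ hb)⟩

theorem psu_equiv (K : Type) [Field K] [Fintype K] (hK : Fintype.card K = 9) :
    Nonempty (Cfsg.PSU 4 K 3 ≃* ↥U) := by
  obtain ⟨e0⟩ := U_equiv_G0
  obtain ⟨e1⟩ := U4.main
  obtain ⟨e2⟩ := exists_psu_congr (FiniteField.ringEquivOfCardEq (K := Cfsg.Agent.Lib.U33.K9)
    (K' := K) (U33.card_k9.trans (hK.trans (by norm_num)).symm)) 4 3
  exact ⟨e2.symm.trans (e1.symm.trans e0)⟩

end Cfsg.Agent.Lib.McLRankThree18
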