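import Cfsg.Agent.Lib.McLRankThree18.Embed
import Cfsg.Agent.Lib.McLRankThree18.Psu
import Cfsg.Agent.Lib.MathieuFusion.McL
import Cfsg.Agent.S0404
import Cfsg.Agent.S1580
import Cfsg.Agent.S1581
import Cfsg.Agent.S1582

/-! Recognition of the McLaughlin group as a rank 3 group on 275 points. -/

set_option autoImplicit false
set_option maxRecDepth 20000

namespace Cfsg.Agent.Lib.McLRankThree18

open Cfsg

/-- The order of such a group. -/
theorem card_of_action {X V : Type*} [Group X] [Finite X] [MulAction X V]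
    [MulAction.IsPretransitive X V] [Fintype V] (hV : Fintype.card V = 275) (a : V)
    (ψ : ↥U ≃* ↥(MulAction.stabilizer X a)) : Nat.card X = 898128000 := by
  have h := (MulAction.stabilizer X a).card_mul_index
  rw [MulAction.index_stabilizer_of_transitive, ← Nat.card_congr ψ.toEquiv, card_U,
    Nat.card_eq_fintype_card (α := V), hV] at h
  omega

/-- Two subgroups of the automorphism group of this order, one of them simple, coincide. -/
theorem range_eq {X Y : Subgroup (Equiv.Perm SV)} (hX : X ≤ autStd) (hY : Y ≤ autStd)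
    [hs : IsSimpleGroup ↥Y] (hcX : Nat.card ↥X = 898128000) (hcY : Nat.card ↥Y = 898128000) :
    X = Y := by
  classical
  set X' := X.subgroupOf autStd
  have hc' : Nat.card ↥X' = 898128000 :=
    (Nat.card_congr (Subgroup.subgroupOfEquivOfLe hX).toEquiv).trans hcX
  have hidx : X'.index ≤ 8 := by
    have h := X'.card_mul_index
    rw [hc'] at h
    have := card_autStd
    omega
  let f : ↥Y →* Equiv.Perm (↥autStd ⧸ X') :=
    (MulAction.toPermHom ↥autStd (↥autStd ⧸ X')).comp (Subgroup.inclusion hY)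
  rcases hs.eq_bot_or_eq_top_of_normal f.ker f.normal_ker with h | h
  · exfalso
    have h1 := Nat.card_le_card_of_injective f ((MonoidHom.ker_eq_bot_iff f).1 h)
    rw [hcY, Nat.card_perm, ← Subgroup.index_eq_card] at h1
    have h2 := Nat.factorial_le hidx
    norm_num [Nat.factorial] at h2
    omega
  · refine (Subgroup.eq_of_le_of_card_ge (fun y hy => ?_) (by rw [hcX, hcY])).symm
    have hk : (⟨y, hy⟩ : ↥Y) ∈ f.ker := h ▸ Subgroup.mem_top _
    have he : f ⟨y, hy⟩ (((1 : ↥autStd) : ↥autStd ⧸ X')) = ((1 : ↥autStd) : ↥autStd ⧸ X') := by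
      rw [MonoidHom.mem_ker.1 hk]; rfl
    have he' : (((Subgroup.inclusion hY ⟨y, hy⟩ * 1 : ↥autStd)) : ↥autStd ⧸ X') = _ := he
    rw [QuotientGroup.eq, mul_one, mul_one] at he'
    have h2 := inv_mem he'
    rw [inv_inv] at h2
    exact h2

/-- Such a group is determined up to isomorphism. -/
theorem iso_of_actions {X Y V W : Type*} [Group X] [Finite X] [Group Y] [Finite Y] [IsSimpleGroup Y]
    [MulAction X V] [MulAction Y W] [FaithfulSMul X V] [FaithfulSMul Y W]
    [MulAction.IsPretransitive X V] [MulAction.IsPretransitive Y W] [Fintype V] [Fintype W]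
    (hV : Fintype.card V = 275) (hW : Fintype.card W = 275) (a b c : V) (a' b' c' : W)
    (ψ : ↥U ≃* ↥(MulAction.stabilizer X a)) (ψ' : ↥U ≃* ↥(MulAction.stabilizer Y a'))
    (hb : (MulAction.orbit (MulAction.stabilizer X a) b).ncard = 112)
    (hc : (MulAction.orbit (MulAction.stabilizer X a) c).ncard = 162)
    (hb' : (MulAction.orbit (MulAction.stabilizer Y a') b').ncard = 112)
    (hc' : (MulAction.orbit (MulAction.stabilizer Y a') c').ncard = 162) : Nonempty (X ≃* Y) := by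
  classical
  obtain ⟨f, hf, hfA⟩ := exists_embedding hV a b c ψ hb hc
  obtain ⟨f', hf', hfA'⟩ := exists_embedding hW a' b' c' ψ' hb' hc'
  haveI : IsSimpleGroup ↥f'.range := (MonoidHom.ofInjective hf').isSimpleGroup_congr.1 inferInstance
  have heq : f.range = f'.range := range_eq hfA hfA'
    ((Nat.card_congr (MonoidHom.ofInjective hf).symm.toEquiv).trans (card_of_action hV a ψ))
    ((Nat.card_congr (MonoidHom.ofInjective hf').symm.toEquiv).trans (card_of_action hW a' ψ'))
  exact ⟨((MonoidHom.ofInjective hf).trans (MulEquiv.subgroupCongr heq)).trans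
    (MonoidHom.ofInjective hf').symm⟩

section Leech

open Cfsg.Agent.Lib.Leech Cfsg.Agent.Lib.SporStruct

/-- The first vector. -/
noncomputable def uu : leechLattice := -Spor.leechV

/-- The second vector. -/
noncomputable def vv : leechLattice := Spor.leechU

theorem huu : sqNorm (uu : GolayPt → ℤ) = 48 := by
  show sqNorm (-Spor.vecV) = 48
  decide +kernel

theorem hvv : sqNorm (vv : GolayPt → ℤ) = 32 ∧
    sqNorm ((uu - vv) : GolayPt → ℤ) = 32 := by
  constructor
  · show sqNorm Spor.vecU = 32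
    decide +kernel
  · show sqNorm (-Spor.vecV - Spor.vecU) = 32
    decide +kernel

/-- The McLaughlin group. -/
noncomputable abbrev McH : Subgroup Co0 := MathieuFusion.McL.H

theorem mem_McH {g : Co0} : g ∈ McH ↔ g • uu = uu ∧ g • vv = vv := by
  show g • Spor.leechV = Spor.leechV ∧ g • Spor.leechU = Spor.leechU ↔ _
  rw [uu, smul_neg', neg_inj]
  rfl

/-- The 275 vectors. -/
def Pts : Set leechLattice :=
  {x | sqNorm (x : GolayPt → ℤ) = 32 ∧ sqNorm ((uu - x) : GolayPt → ℤ) = 32 ∧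
    dotInt (vv : GolayPt → ℤ) (x : GolayPt → ℤ) = 16}

theorem mem_Pts {x : leechLattice} : x ∈ Pts ↔ sqNorm (vec x) = 32 ∧
    dotInt (vec uu) (vec x) = 24 ∧ dotInt (vec vv) (vec x) = 16 := by
  have e := Leech.sqNorm_sub (uu : GolayPt → ℤ) (x : GolayPt → ℤ)
  have hu := huu
  show (_ ∧ _ ∧ _) ↔ _
  simp only [vec]
  constructor
  · rintro ⟨h1, h2, h3⟩
    exact ⟨h1, by omega, h3⟩
  · rintro ⟨h1, h2, h3⟩
    exact ⟨h1, by omega, h3⟩

theorem smul_mem_Pts (g : ↥McH) {x : leechLattice} (hx : x ∈ Pts) : (g : Co0) • x ∈ Pts := by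
  obtain ⟨h1, h2⟩ := mem_McH.1 g.2
  obtain ⟨x1, x2, x3⟩ := mem_Pts.1 hx
  refine mem_Pts.2 ⟨?_, ?_, ?_⟩
  · rw [norm_smul']; exact x1
  · conv_lhs => rw [← h1]
    rw [dot_smul]; exact x2
  · conv_lhs => rw [← h2]
    rw [dot_smul]; exact x3

noncomputable instance ptsAction : MulAction ↥McH ↥Pts where
  smul g x := ⟨(g : Co0) • x.1, smul_mem_Pts g x.2⟩
  one_smul x := Subtype.ext (one_smul Co0 x.1)
  mul_smul g h x := Subtype.ext (mul_smul (g : Co0) (h : Co0) x.1)

theorem pts_card : Nat.card ↥Pts = 275 := by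
  rw [Nat.card_coe_set_eq]
  exact (Cfsg.Agent.S1580.result uu vv huu hvv).1

theorem pts_finite : Finite ↥Pts := Nat.finite_of_card_ne_zero (by rw [pts_card]; norm_num)

theorem pts_transitive : MulAction.IsPretransitive ↥McH ↥Pts := ⟨fun x y => by
  obtain ⟨g, h1, h2, h3⟩ := (Cfsg.Agent.S1580.result uu vv huu hvv).2 x.1 x.2 y.1 y.2
  exact ⟨⟨g, mem_McH.2 ⟨h1, h2⟩⟩, Subtype.ext h3⟩⟩

theorem mcl_simple : IsSimpleGroup ↥McH := by
  have h : Cfsg.IsMcL ↥(MulAction.stabilizer Co0 Spor.leechU ⊓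
      MulAction.stabilizer Co0 (-(Spor.leechU + Spor.leechV))) := by
    refine Cfsg.Agent.S0404.result _ _ ?_ ?_ ?_
    · show sqNorm Spor.vecU = 32
      decide +kernel
    · show sqNorm (-(Spor.vecU + Spor.vecV)) = 32
      decide +kernel
    · show dotInt Spor.vecU (-(Spor.vecU + Spor.vecV)) = -8
      decide +kernel
  have e : McH = MulAction.stabilizer Co0 Spor.leechU ⊓
      MulAction.stabilizer Co0 (-(Spor.leechU + Spor.leechV)) := by
    ext g
    show g • Spor.leechV = Spor.leechV ∧ g • Spor.leechU = Spor.leechU ↔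
      g • Spor.leechU = Spor.leechU ∧
        g • -(Spor.leechU + Spor.leechV) = -(Spor.leechU + Spor.leechV)
    rw [smul_neg', smul_add', neg_inj]
    constructor
    · rintro ⟨hv, hu⟩
      exact ⟨hu, by rw [hv, hu]⟩
    · rintro ⟨hu, hw⟩
      rw [hu] at hw
      exact ⟨add_left_cancel hw, hu⟩
  exact (MulEquiv.subgroupCongr e).isSimpleGroup_congr.2 h.1

theorem pts_faithful : FaithfulSMul ↥McH ↥Pts := by
  haveI := mcl_simple
  haveI := pts_transitive
  haveI := pts_finite
  obtain ⟨x, y, hxy⟩ : ∃ x y : ↥Pts, x ≠ y := by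
    by_contra h
    push Not at h
    haveI : Subsingleton ↥Pts := ⟨h⟩
    have := pts_card
    have h1 : Nat.card ↥Pts ≤ 1 := Finite.card_le_one_iff_subsingleton.2 inferInstance
    omega
  rcases (MulAction.toPermHom ↥McH ↥Pts).normal_ker.eq_bot_or_eq_top with h | h
  · exact ⟨fun {g g'} e => (MonoidHom.ker_eq_bot_iff _).1 h (Equiv.ext e)⟩
  · obtain ⟨g, hg⟩ := MulAction.exists_smul_eq ↥McH x y
    have hk : g ∈ (MulAction.toPermHom ↥McH ↥Pts).ker := h ▸ Subgroup.mem_top g
    have he := Equiv.ext_iff.1 (MonoidHom.mem_ker.1 hk) x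
    exact absurd (he.symm.trans hg) hxy

theorem pts_data (K : Type) [Field K] [Fintype K] (hK : Fintype.card K = 9) :
    ∃ (a b c : ↥Pts) (_ : ↥U ≃* ↥(MulAction.stabilizer ↥McH a)),
      (MulAction.orbit (MulAction.stabilizer ↥McH a) b).ncard = 112 ∧
      (MulAction.orbit (MulAction.stabilizer ↥McH a) c).ncard = 162 := by
  haveI := pts_finite
  obtain ⟨a⟩ : Nonempty ↥Pts := (Nat.card_pos_iff.1 (by rw [pts_card]; norm_num)).1
  obtain ⟨e1⟩ := Cfsg.Agent.S1582.result uu vv a.1 huu hvv a.2 K hK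
  obtain ⟨e2⟩ := psu_equiv K hK
  let e3 : ↥(MulAction.stabilizer ↥McH a) ≃*
      ↥(MulAction.stabilizer Co0 uu ⊓ MulAction.stabilizer Co0 vv ⊓
        MulAction.stabilizer Co0 a.1) :=
    { toFun := fun g => ⟨g.1.1, mem_McH.1 g.1.2, congrArg Subtype.val g.2⟩
      invFun := fun g => ⟨⟨g.1, mem_McH.2 g.2.1⟩, Subtype.ext g.2.2⟩
      left_inv := fun _ => rfl
      right_inv := fun _ => rfl
      map_mul' := fun _ _ => rfl }
  obtain ⟨h112, h162, htr⟩ := Cfsg.Agent.S1581.result uu vv a.1 huu hvv a.2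
  have haa : dotInt (vec a.1) (vec a.1) = 32 := by
    rw [LeechPairs.dot_self]; exact a.2.1
  obtain ⟨b, hb, hab⟩ := Set.nonempty_of_ncard_ne_zero (by rw [h112]; norm_num)
  obtain ⟨c, hc, hca, hac⟩ := Set.nonempty_of_ncard_ne_zero (by rw [h162]; norm_num)
  have hfix : ∀ k : MulAction.stabilizer ↥McH a, ∀ y : ↥Pts,
      dotInt (vec a.1) (vec (k • y).1) = dotInt (vec a.1) (vec y.1) ∧
        ((k • y).1 = a.1 ↔ y.1 = a.1) := by
    intro k y
    have hk : ((k : ↥McH) : Co0) • a.1 = a.1 := congrArg Subtype.val k.2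
    constructor
    · conv_lhs => rw [← hk]
      exact dot_smul ((k : ↥McH) : Co0) a.1 y.1
    · constructor
      · intro e
        exact MulAction.injective ((k : ↥McH) : Co0) (e.trans hk.symm)
      · intro e
        show ((k : ↥McH) : Co0) • y.1 = a.1
        rw [e]; exact hk
  have hin : ∀ (y : ↥Pts) (z : leechLattice) (hz : z ∈ Pts), y.1 ≠ a.1 → z ≠ a.1 →
      dotInt (vec a.1) (vec y.1) = dotInt (vec a.1) (vec z) →
      (⟨z, hz⟩ : ↥Pts) ∈ MulAction.orbit (MulAction.stabilizer ↥McH a) y := by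
    intro y z hz h1 h2 h3
    obtain ⟨g, g1, g2, g3, g4⟩ := htr y.1 y.2 z hz h1 h2 h3
    exact ⟨⟨⟨g, mem_McH.2 ⟨g1, g2⟩⟩, Subtype.ext g3⟩, Subtype.ext g4⟩
  have hba : b ≠ a.1 := fun e => by
    rw [e] at hab
    have : dotInt (vec a.1) (vec a.1) = 8 := hab
    omega
  refine ⟨a, ⟨b, hb⟩, ⟨c, hc⟩, (e3.trans (e1.trans e2)).symm, ?_, ?_⟩
  · rw [← h112]
    refine (Set.ncard_image_of_injective _ Subtype.val_injective).symm.trans (congrArg _ ?_)
    ext z
    constructor
    · rintro ⟨_, ⟨k, rfl⟩, rfl⟩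
      exact ⟨(k • (⟨b, hb⟩ : ↥Pts)).2, (hfix k ⟨b, hb⟩).1.trans hab⟩
    · rintro ⟨hz, hd⟩
      refine ⟨⟨z, hz⟩, hin ⟨b, hb⟩ z hz hba ?_ (hab.trans hd.symm), rfl⟩
      intro e
      rw [e] at hd
      have : dotInt (vec a.1) (vec a.1) = 8 := hd
      omega
  · rw [← h162]
    refine (Set.ncard_image_of_injective _ Subtype.val_injective).symm.trans (congrArg _ ?_)
    ext z
    constructor
    · rintro ⟨_, ⟨k, rfl⟩, rfl⟩
      exact ⟨(k • (⟨c, hc⟩ : ↥Pts)).2, fun e => hca ((hfix k ⟨c, hc⟩).2.1 e),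
        (hfix k ⟨c, hc⟩).1.trans hac⟩
    · rintro ⟨hz, hza, hd⟩
      exact ⟨⟨z, hz⟩, hin ⟨c, hc⟩ z hz hca hza (hac.trans hd.symm), rfl⟩

theorem iso_McL {X V : Type*} [Group X] [Finite X] [MulAction X V] [FaithfulSMul X V]
    [MulAction.IsPretransitive X V] [Fintype V] (hV : Fintype.card V = 275) (a b c : V)
    (K : Type) [Field K] [Fintype K] (hK : Fintype.card K = 9)
    (e : MulAction.stabilizer X a ≃* Cfsg.PSU 4 K 3)
    (hb : (MulAction.orbit (MulAction.stabilizer X a) b).ncard = 112)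
    (hc : (MulAction.orbit (MulAction.stabilizer X a) c).ncard = 162) : Spor.IsoMcL X := by
  haveI := pts_finite
  haveI := pts_transitive
  haveI := pts_faithful
  haveI := mcl_simple
  haveI : Finite ↥McH := Nat.finite_of_card_ne_zero (by rw [MathieuFusion.McL.card_H]; norm_num)
  letI : Fintype ↥Pts := Fintype.ofFinite _
  obtain ⟨e2⟩ := psu_equiv K hK
  obtain ⟨a', b', c', ψ', hb', hc'⟩ := pts_data K hK
  obtain ⟨i⟩ := iso_of_actions hV (by rw [← Nat.card_eq_fintype_card, pts_card]) a b c a' b' c'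
    (e.trans e2).symm ψ' hb hc hb' hc'
  exact ⟨i.trans MathieuFusion.McL.equiv⟩

end Leech

end Cfsg.Agent.Lib.McLRankThree18
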