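import Cfsg.Agent.Lib.Computation.PermCode

/-! Search trees and bit-mask tools for the reconstruction of the graph on 275 points. -/

set_option autoImplicit false

namespace Cfsg.Agent.Lib.McLRankThree18

open Cfsg.Agent.Lib.Computation (getW)

/-- A search tree: propagation steps, case splits, and pairs of complementary solutions. -/
inductive Tr
  | bad
  | leaf (a b : ℕ)
  | split (v : ℕ) (l r : Tr)
  | steps (len code : ℕ) (t : Tr)

/-- All numbers below `k` satisfy `f`. -/
def allN (k : ℕ) (f : ℕ → Bool) : Bool :=
  Nat.rec true (fun i acc => f i && acc) k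

theorem allN_iff {f : ℕ → Bool} : ∀ {k : ℕ}, allN k f = true ↔ ∀ i < k, f i = true := by
  intro k
  induction k with
  | zero => simp [allN]
  | succ k ih =>
    have hs : allN (k + 1) f = (f k && allN k f) := rfl
    rw [hs, Bool.and_eq_true, ih]
    constructor
    · rintro ⟨h1, h2⟩ i hi
      rcases Nat.lt_succ_iff_lt_or_eq.1 hi with hi | rfl
      · exact h2 i hi
      · exact h1
    · exact fun h => ⟨h k (by omega), fun i hi => h i (by omega)⟩

/-- The image of the positions of a mask under a packed map on numbers below `k`. -/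
def imgMask (p m k : ℕ) : ℕ :=
  Nat.rec 0 (fun i acc => bif m.testBit i then 2 ^ getW 7 p i ||| acc else acc) k

theorem testBit_imgMask {p m y : ℕ} : ∀ {k : ℕ},
    (imgMask p m k).testBit y = true ↔ ∃ x < k, m.testBit x = true ∧ getW 7 p x = y := by
  intro k
  induction k with
  | zero => simp [imgMask]
  | succ k ih =>
    have hs : imgMask p m (k + 1) =
        bif m.testBit k then 2 ^ getW 7 p k ||| imgMask p m k else imgMask p m k := rfl
    rw [hs]
    cases hb : m.testBit k
    · rw [cond_false, ih]
      constructor
      · rintro ⟨x, hx, h⟩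
        exact ⟨x, by omega, h⟩
      · rintro ⟨x, hx, h, e⟩
        refine ⟨x, ?_, h, e⟩
        rcases Nat.lt_succ_iff_lt_or_eq.1 hx with hx | rfl
        · exact hx
        · rw [hb] at h; exact absurd h (by simp)
    · rw [cond_true, Nat.testBit_or, Bool.or_eq_true, ih, Nat.testBit_two_pow, decide_eq_true_eq]
      constructor
      · rintro (h | ⟨x, hx, h⟩)
        · exact ⟨k, by omega, hb, h⟩
        · exact ⟨x, by omega, h⟩
      · rintro ⟨x, hx, h, e⟩
        rcases Nat.lt_succ_iff_lt_or_eq.1 hx with hx | rfl
        · exact Or.inr ⟨x, hx, h, e⟩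
        · exact Or.inl e

end Cfsg.Agent.Lib.McLRankThree18
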